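import Groth.Agent.Lib.HilbBC25.Basic
import Groth.Agent.Lib.GrpQuot.SubDescFam
import Mathlib.AlgebraicGeometry.Sites.Representability

/-!
# Representability of the Hilbert functor of points from an open cover by representable pieces
-/

set_option autoImplicit false
set_option maxHeartbeats 300000
set_option linter.style.haveILetI false
set_option backward.isDefEq.respectTransparency.types false

universe w u

open CategoryTheory CategoryTheory.Limits AlgebraicGeometry Opposite TopologicalSpace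

namespace Groth.Agent.HilbRep25

variable {X S : Scheme.{u}} (f : X ⟶ S) (d : ℕ)

/-- A representable open piece of the Hilbert functor. -/
structure Chart where
  /-- the representing object -/
  U : Over S
  /-- the family on it -/
  Z : HilbD.Obj f d U
  eq_of_pull_eq : ∀ {T : Over S} (h h' : T ⟶ U), HilbD.pull f h Z.1 = HilbD.pull f h' Z.1 → h = h'
  exists_locus : ∀ (T : Over S) (Z' : HilbD.Obj f d T), ∃ O : T.left.Opens, ∀ {T' : Over S} (g : T' ⟶ T),
    (∀ y, g.left y ∈ O) ↔ ∃ h : T' ⟶ U, HilbD.pull f h Z.1 = HilbD.pull f g Z'.1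

variable {f d}

/-- A point of the Hilbert functor over a scheme. -/
abbrev Pt (f : X ⟶ S) (d : ℕ) (T : Scheme.{u}) : Type u := Σ s : T ⟶ S, HilbD.Obj f d (Over.mk s)

/-- Pullback of a point. -/
noncomputable def Pt.map {T T' : Scheme.{u}} (g : T' ⟶ T) (p : Pt f d T) : Pt f d T' :=
  ⟨g ≫ p.1, ⟨HilbD.pull f (Over.homMk g rfl : Over.mk (g ≫ p.1) ⟶ Over.mk p.1) p.2.1,
    HilbBC25.isFinLocFreeOfDeg_pull f d _ _ p.2.2⟩⟩

theorem pull_congr {T T' : Over S} {g g' : T' ⟶ T} (h : g.left = g'.left) (I : (PicF.XT f T).IdealSheafData) :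
    HilbD.pull f g I = HilbD.pull f g' I := by
  rw [show g = g' from Over.OverMorphism.ext h]

theorem Pt.ext' {T : Scheme.{u}} {p q : Pt f d T} (h : q.1 = p.1)
    (h₂ : HilbD.pull f (Over.homMk (𝟙 T) (by simp [h]) : Over.mk q.1 ⟶ Over.mk p.1) p.2.1 = q.2.1) :
    p = q := by
  obtain ⟨s, I⟩ := p
  obtain ⟨t, J⟩ := q
  obtain rfl : t = s := h
  refine Sigma.ext rfl (heq_of_eq (Subtype.ext ?_))
  rw [← h₂]
  exact ((pull_congr (g' := 𝟙 (Over.mk t)) rfl I.1).trans (HilbBC25.pull_id f I.1)).symm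

/-- The presheaf of points. -/
noncomputable def presheaf (f : X ⟶ S) (d : ℕ) : Scheme.{u}ᵒᵖ ⥤ Type u where
  obj T := Pt f d T.unop
  map g := TypeCat.ofHom fun p => Pt.map g.unop p
  map_id T := by
    apply ConcreteCategory.hom_ext
    intro p
    show Pt.map (𝟙 _) p = p
    refine Pt.ext' (Category.id_comp _).symm ?_
    show HilbD.pull f _ (HilbD.pull f _ p.2.1) = _
    rw [← HilbBC25.pull_comp]
    exact (pull_congr (g' := 𝟙 _) (by simp) _).trans (HilbBC25.pull_id f _)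
  map_comp {T T' T''} g g' := by
    apply ConcreteCategory.hom_ext
    intro p
    show Pt.map (g'.unop ≫ g.unop) p = Pt.map g'.unop (Pt.map g.unop p)
    refine Pt.ext' (Category.assoc _ _ _).symm ?_
    show HilbD.pull f _ (HilbD.pull f _ p.2.1) = HilbD.pull f _ (HilbD.pull f _ p.2.1)
    rw [← HilbBC25.pull_comp, ← HilbBC25.pull_comp]
    exact pull_congr (Category.id_comp _) _

/-- Equality of points, tested on one family. -/
theorem map_eq_iff {T T' : Scheme.{u}} (g : T' ⟶ T) (p : Pt f d T) (q : Pt f d T') :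
    Pt.map g p = q ↔ ∃ h : g ≫ p.1 = q.1,
      HilbD.pull f (Over.homMk g h : Over.mk q.1 ⟶ Over.mk p.1) p.2.1 = q.2.1 := by
  obtain ⟨t, J⟩ := q
  constructor
  · intro h
    obtain ⟨rfl, h2⟩ := Sigma.mk.inj_iff.1 h
    exact ⟨rfl, congrArg Subtype.val (eq_of_heq h2)⟩
  · rintro ⟨h, h₂⟩
    simp only at h
    subst h
    exact Sigma.ext rfl (heq_of_eq (Subtype.ext h₂))

theorem isQCCovering_openCover {T : Scheme.{u}} (𝒰 : Scheme.OpenCover.{w} T) :
    GrpQuot.SubDesc.IsQCCovering 𝒰.f := fun V =>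
  QuasiCompactCover.exists_isAffineOpen_of_isCompact 𝒰.toPreZeroHypercover V.2.isCompact

/-- The base change of an open cover to `X_T`. -/
theorem isQCCovering_XTmap {T : Over S} (𝒰 : Scheme.OpenCover.{w} T.left) :
    (∀ k, Flat (PicF.XTmap f (Over.homMk (𝒰.f k) rfl : Over.mk (𝒰.f k ≫ T.hom) ⟶ T))) ∧
      GrpQuot.SubDesc.IsQCCovering
        (fun k => PicF.XTmap f (Over.homMk (𝒰.f k) rfl : Over.mk (𝒰.f k ≫ T.hom) ⟶ T)) := by
  have sq := fun k => (HilbBC25.isPullback_XTmap f (Over.homMk (𝒰.f k) rfl : Over.mk (𝒰.f k ≫ T.hom) ⟶ T))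
  haveI : ∀ k, IsOpenImmersion (PicF.XTmap f (Over.homMk (𝒰.f k) rfl : Over.mk (𝒰.f k ≫ T.hom) ⟶ T)) :=
    fun k => MorphismProperty.of_isPullback (P := @IsOpenImmersion) (sq k).flip
      (inferInstance : IsOpenImmersion (𝒰.f k))
  refine ⟨fun k => inferInstance, fun V => ?_⟩
  let E : PreZeroHypercover.{w} (PicF.XT f T) :=
    ⟨𝒰.I₀, _, fun k => PicF.XTmap f (Over.homMk (𝒰.f k) rfl : Over.mk (𝒰.f k ≫ T.hom) ⟶ T)⟩
  let 𝒱 : Scheme.OpenCover.{w} (PicF.XT f T) :=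
    { E with
      mem₀ := by
        rw [Scheme.presieve₀_mem_precoverage_iff]
        refine ⟨fun x => ?_, fun k => inferInstanceAs (IsOpenImmersion (E.f k))⟩
        obtain ⟨k, y, hy⟩ := 𝒰.exists_eq (PicF.XTproj f T x)
        obtain ⟨z, hz₁, hz₂⟩ := Scheme.exists_preimage_of_isPullback (sq k) x y hy.symm
        exact ⟨k, z, hz₁⟩ }
  exact isQCCovering_openCover 𝒱 V

/-- Points glue along open covers. -/
theorem existsUnique_glue {T : Over S} (𝒰 : Scheme.OpenCover.{w} T.left)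
    (I : ∀ k, HilbD.Obj f d (Over.mk (𝒰.f k ≫ T.hom)))
    (hI : ∀ k l, ∀ (T' : Over S) (a : T' ⟶ Over.mk (𝒰.f k ≫ T.hom)) (b : T' ⟶ Over.mk (𝒰.f l ≫ T.hom)),
      a.left ≫ 𝒰.f k = b.left ≫ 𝒰.f l → HilbD.pull f a (I k).1 = HilbD.pull f b (I l).1) :
    ∃! J : HilbD.Obj f d T,
      ∀ k, HilbD.pull f (Over.homMk (𝒰.f k) rfl : Over.mk (𝒰.f k ≫ T.hom) ⟶ T) J.1 = (I k).1 := by
  let j := fun k => (Over.homMk (𝒰.f k) rfl : Over.mk (𝒰.f k ≫ T.hom) ⟶ T)
  obtain ⟨hflat, hqc⟩ := isQCCovering_XTmap (f := f) 𝒰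
  have hcompat : ∀ (W : Scheme.{u}) (k l : 𝒰.I₀) (x₀ : W ⟶ PicF.XT f (Over.mk (𝒰.f k ≫ T.hom)))
      (x₁ : W ⟶ PicF.XT f (Over.mk (𝒰.f l ≫ T.hom))),
      x₀ ≫ PicF.XTmap f (j k) = x₁ ≫ PicF.XTmap f (j l) → (I k).1.comap x₀ = (I l).1.comap x₁ := by
    intro W k l x₀ x₁ e
    have e₂ : (x₀ ≫ PicF.XTproj f _) ≫ 𝒰.f k = (x₁ ≫ PicF.XTproj f _) ≫ 𝒰.f l := by
      have := congrArg (· ≫ PicF.XTproj f T) e
      simpa only [Category.assoc, HilbBC25.XTmap_snd, j, Over.homMk_left] using this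
    have e₁ : x₀ ≫ pullback.fst f _ = x₁ ≫ pullback.fst f _ := by
      have := congrArg (· ≫ pullback.fst f T.hom) e
      simpa only [Category.assoc, HilbBC25.XTmap_fst] using this
    let T' : Over S := Over.mk ((x₀ ≫ PicF.XTproj f _) ≫ 𝒰.f k ≫ T.hom)
    let a : T' ⟶ Over.mk (𝒰.f k ≫ T.hom) := Over.homMk (x₀ ≫ PicF.XTproj f _) rfl
    let b : T' ⟶ Over.mk (𝒰.f l ≫ T.hom) := Over.homMk (x₁ ≫ PicF.XTproj f _)
      (by
        show (x₁ ≫ PicF.XTproj f _) ≫ 𝒰.f l ≫ T.hom = (x₀ ≫ PicF.XTproj f _) ≫ 𝒰.f k ≫ T.hom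
        exact (congrArg (· ≫ T.hom) e₂).symm.trans (Category.assoc _ _ _) |> fun h => (Category.assoc _ _ _).symm.trans h)
    let w : W ⟶ PicF.XT f T' := pullback.lift (x₀ ≫ pullback.fst f _) (𝟙 W) (by
      show (x₀ ≫ _) ≫ f = 𝟙 W ≫ (x₀ ≫ PicF.XTproj f _) ≫ 𝒰.f k ≫ T.hom
      rw [Category.id_comp, Category.assoc, pullback.condition, Category.assoc]
      rfl)
    have wa : w ≫ PicF.XTmap f a = x₀ := by
      apply pullback.hom_ext
      · rw [Category.assoc, HilbBC25.XTmap_fst, pullback.lift_fst]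
      · rw [Category.assoc, HilbBC25.XTmap_snd, ← Category.assoc, pullback.lift_snd, Category.id_comp]
        rfl
    have wb : w ≫ PicF.XTmap f b = x₁ := by
      apply pullback.hom_ext
      · rw [Category.assoc, HilbBC25.XTmap_fst, pullback.lift_fst, e₁]
      · rw [Category.assoc, HilbBC25.XTmap_snd, ← Category.assoc, pullback.lift_snd, Category.id_comp]
        rfl
    rw [← wa, ← wb, Scheme.IdealSheafData.comap_comp, Scheme.IdealSheafData.comap_comp,
      ← HilbBC25.pull_eq_comap, ← HilbBC25.pull_eq_comap, hI k l T' a b e₂]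
  obtain ⟨J, hJ⟩ := GrpQuot.SubDesc.exists_descend_family (fun k => PicF.XTmap f (j k)) (fun k => (I k).1)
    hcompat hflat hqc
  have hJ' : ∀ k, HilbD.pull f (j k) J = (I k).1 := fun k => (HilbBC25.pull_eq_comap f _ _).trans (hJ k)
  let q := J.subschemeι ≫ PicF.XTproj f T
  have sq : ∀ k, IsPullback ((J.comapIso (PicF.XTmap f (j k))).hom ≫ pullback.snd _ _)
      ((J.comap (PicF.XTmap f (j k))).subschemeι ≫ PicF.XTproj f (Over.mk (𝒰.f k ≫ T.hom))) q (𝒰.f k) := fun k => by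
    refine (HilbBC25.isPullback_subscheme f (j k) J).of_iso (J.comapIso _).symm (Iso.refl _) (Iso.refl _)
      (Iso.refl _) (by simp [← Scheme.IdealSheafData.comapIso_hom_snd, -Scheme.IdealSheafData.comapIso_hom_snd])
      ?_ (by simp [q]) (by simp [j])
    rw [Iso.refl_hom, Category.comp_id, Iso.symm_hom, Scheme.IdealSheafData.comapIso_inv_subschemeι_assoc]
  have hP : ∀ (P : MorphismProperty Scheme.{u}) [IsZariskiLocalAtTarget P],
      (∀ k, P ((I k).1.subschemeι ≫ PicF.XTproj f (Over.mk (𝒰.f k ≫ T.hom)))) → P q := fun P _ h =>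
    IsZariskiLocalAtTarget.of_openCover 𝒰 fun k => by
      show P (pullback.snd q (𝒰.f k))
      rw [← (sq k).isoPullback_inv_snd, P.cancel_left_of_respectsIso]
      rw [hJ k]
      exact h k
  haveI : IsFinite q := hP @IsFinite fun k => (I k).2.1.1
  haveI : Flat q := hP @Flat fun k => (I k).2.1.2.1
  haveI : LocallyOfFinitePresentation q := hP @LocallyOfFinitePresentation fun k => (I k).2.1.2.2
  refine ⟨⟨J, ⟨inferInstance, inferInstance, inferInstance⟩, fun y => ?_⟩, hJ', fun J' hJ'' => ?_⟩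
  · obtain ⟨k, z, rfl⟩ := 𝒰.exists_eq y
    rw [← Scheme.Hom.finrank_of_isPullback _ _ _ _ (sq k) z, hJ k]
    exact (I k).2.2 z
  · refine Subtype.ext (GrpQuot.SubDesc.ext_family _ hflat hqc fun k => ?_)
    rw [← HilbBC25.pull_eq_comap, hJ'' k]
    exact (hJ k).symm

/-- The points form a sheaf. -/
theorem isSheaf_presheaf : Presheaf.IsSheaf Scheme.zariskiTopology (presheaf f d) := by
  rw [isSheaf_iff_isSheaf_of_type, Precoverage.isSheaf_toGrothendieck_iff_of_isStableUnderBaseChange]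
  intro T R hR
  obtain ⟨(𝒰 : Scheme.OpenCover T), rfl⟩ := Scheme.exists_cover_of_mem_pretopology hR
  refine (Presieve.isSheafFor_arrows_iff _ _).2 fun x hx => ?_
  let p : ∀ k, Pt f d (𝒰.X k) := x
  have hp : ∀ {T' : Scheme.{u}} (k l : 𝒰.I₀) (a : T' ⟶ 𝒰.X k) (b : T' ⟶ 𝒰.X l),
      a ≫ 𝒰.f k = b ≫ 𝒰.f l → Pt.map a (p k) = Pt.map b (p l) := fun k l a b hab => hx k l _ a b hab
  let t : T ⟶ S := 𝒰.glueMorphisms (fun k => (p k).1) fun k l =>
    congrArg Sigma.fst (hp k l _ _ pullback.condition)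
  have ht : ∀ k, 𝒰.f k ≫ t = (p k).1 := fun k => 𝒰.ι_glueMorphisms _ _ k
  let I : ∀ k, HilbD.Obj f d (Over.mk (𝒰.f k ≫ t)) := fun k =>
    ⟨HilbD.pull f (Over.homMk (𝟙 _) (by simp [ht]) : Over.mk (𝒰.f k ≫ t) ⟶ Over.mk (p k).1) (p k).2.1,
      HilbBC25.isFinLocFreeOfDeg_pull f d _ _ (p k).2.2⟩
  have hI : ∀ k l, ∀ (T' : Over S) (a : T' ⟶ Over.mk (𝒰.f k ≫ t)) (b : T' ⟶ Over.mk (𝒰.f l ≫ t)),
      a.left ≫ 𝒰.f k = b.left ≫ 𝒰.f l → HilbD.pull f a (I k).1 = HilbD.pull f b (I l).1 := by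
    intro k l T' a b hab
    have ha : a.left ≫ (p k).1 = T'.hom := by rw [← ht k]; exact Over.w a
    have hb : b.left ≫ (p l).1 = T'.hom := by rw [← ht l]; exact Over.w b
    have e₁ : Pt.map a.left (p k) = ⟨T'.hom, ⟨HilbD.pull f (Over.homMk a.left ha : T' ⟶ Over.mk (p k).1) (p k).2.1,
        HilbBC25.isFinLocFreeOfDeg_pull f d _ _ (p k).2.2⟩⟩ := (map_eq_iff _ _ _).2 ⟨ha, rfl⟩
    rw [hp k l a.left b.left hab] at e₁
    obtain ⟨_, e₂⟩ := (map_eq_iff _ _ _).1 e₁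
    simp only [I, ← HilbBC25.pull_comp]
    refine (pull_congr ?_ _).trans (e₂.symm.trans (pull_congr ?_ _))
    · exact Category.comp_id _
    · exact (Category.comp_id _).symm
  obtain ⟨J, hJ, hJu⟩ := existsUnique_glue (T := Over.mk t) 𝒰 I hI
  refine ⟨(⟨t, J⟩ : Pt f d T), fun k => ?_, fun P hP => ?_⟩
  · show Pt.map (𝒰.f k) ⟨t, J⟩ = p k
    refine (map_eq_iff _ _ _).2 ⟨ht k, ?_⟩
    have h1 := congrArg (fun K => HilbD.pull f (Over.homMk (𝟙 _) (by simp [ht]) :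
      Over.mk (p k).1 ⟶ Over.mk (𝒰.f k ≫ t)) K) (hJ k)
    simp only [I, ← HilbBC25.pull_comp] at h1
    refine (pull_congr ?_ _).trans (h1.trans ((pull_congr (g' := 𝟙 _) ?_ _).trans (HilbBC25.pull_id f _)))
    · exact (Category.id_comp _).symm
    · exact Category.id_comp _
  · obtain ⟨t', J'⟩ := (P : Pt f d T)
    have hP' : ∀ k, Pt.map (𝒰.f k) (⟨t', J'⟩ : Pt f d T) = p k := hP
    obtain rfl : t' = t := 𝒰.hom_ext _ _ fun k => by
      rw [ht]; exact congrArg Sigma.fst (hP' k)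
    refine Sigma.ext rfl (heq_of_eq (hJu J' fun k => ?_))
    obtain ⟨_, e⟩ := (map_eq_iff _ _ _).1 (hP' k)
    simp only [I, ← e, ← HilbBC25.pull_comp]
    exact pull_congr (Category.id_comp _).symm _

/-- The map of a chart to the presheaf of points. -/
noncomputable def Chart.toPresheaf (C : Chart f d) : yoneda.obj C.U.left ⟶ presheaf f d where
  app T := TypeCat.ofHom fun h => Pt.map h (⟨C.U.hom, C.Z⟩ : Pt f d C.U.left)
  naturality {T T'} g := by
    apply ConcreteCategory.hom_ext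
    intro h
    exact ConcreteCategory.congr_hom ((presheaf f d).map_comp (Quiver.Hom.op h) g)
      (⟨C.U.hom, C.Z⟩ : Pt f d C.U.left)

theorem Chart.map_eq_iff' (C : Chart f d) {T : Scheme.{u}} (p : Pt f d T) {T' : Scheme.{u}}
    (g : T' ⟶ T) (h : T' ⟶ C.U.left) :
    Pt.map h (⟨C.U.hom, C.Z⟩ : Pt f d C.U.left) = Pt.map g p ↔ ∃ hh : h ≫ C.U.hom = g ≫ p.1,
      HilbD.pull f (Over.homMk h hh : Over.mk (g ≫ p.1) ⟶ C.U) C.Z.1 =
        HilbD.pull f (Over.homMk g rfl : Over.mk (g ≫ p.1) ⟶ Over.mk p.1) p.2.1 :=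
  map_eq_iff _ _ _

theorem Chart.existsUnique_lift (C : Chart f d) {T : Scheme.{u}} (p : Pt f d T) {O : T.Opens}
    (hO : ∀ {T' : Over S} (g : T' ⟶ Over.mk p.1),
      (∀ y, g.left y ∈ O) ↔ ∃ h : T' ⟶ C.U, HilbD.pull f h C.Z.1 = HilbD.pull f g p.2.1)
    {T' : Scheme.{u}} (g : T' ⟶ T) (hg : ∀ y, g y ∈ O) :
    ∃! h : T' ⟶ C.U.left, Pt.map h (⟨C.U.hom, C.Z⟩ : Pt f d C.U.left) = Pt.map g p := by
  obtain ⟨h, hh⟩ := (hO (Over.homMk g rfl : Over.mk (g ≫ p.1) ⟶ Over.mk p.1)).1 hg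
  refine ⟨h.left, (C.map_eq_iff' p g h.left).2 ⟨Over.w h,
    Eq.trans (congrArg (fun a => HilbD.pull f a C.Z.1) (Over.OverMorphism.ext rfl)) hh⟩, fun h' hh' => ?_⟩
  obtain ⟨w, e⟩ := (C.map_eq_iff' p g h').1 hh'
  exact congrArg CommaMorphism.left (C.eq_of_pull_eq (T := Over.mk (g ≫ p.1))
    (Over.homMk h' w : Over.mk (g ≫ p.1) ⟶ C.U) h (e.trans hh.symm))

theorem Chart.presheaf_toPresheaf (C : Chart f d) : IsOpenImmersion.presheaf C.toPresheaf := by
  refine MorphismProperty.relative.of_exists fun T η => ?_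
  let p : Pt f d T := yonedaEquiv η
  obtain ⟨O, hO⟩ := C.exists_locus (Over.mk p.1) p.2
  have hη : ∀ {T' : Scheme.{u}} (a : T' ⟶ T), η.app (op T') a = Pt.map a p := fun a => by
    show _ = (presheaf f d).map a.op (yonedaEquiv η)
    rw [yonedaEquiv_naturality]
    show _ = η.app _ (𝟙 _ ≫ a)
    rw [Category.id_comp]
  obtain ⟨b, hb, -⟩ := C.existsUnique_lift p hO O.ι fun y => y.2
  have w : yoneda.map b ≫ C.toPresheaf = yoneda.map O.ι ≫ η := by
    apply yonedaEquiv.injective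
    show Pt.map (𝟙 _ ≫ b) _ = η.app _ (𝟙 _ ≫ O.ι)
    rw [Category.id_comp, Category.id_comp, hη]
    exact hb
  refine ⟨O.toScheme, yoneda.map b, O.ι, ⟨⟨w⟩, ⟨PullbackCone.IsLimit.mk w
    (fun s => { app := fun T' => TypeCat.ofHom fun x => IsOpenImmersion.lift O.ι (s.snd.app T' x) ?_
                naturality := ?_ }) ?_ ?_ ?_⟩⟩, inferInstance⟩
  · rintro _ ⟨z, rfl⟩
    rw [Scheme.Opens.range_ι]
    have h := (congrArg (fun e : s.pt ⟶ presheaf f d => e.app T' x) s.condition).trans (hη _)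
    obtain ⟨hw, e⟩ := (C.map_eq_iff' p _ _).1 h
    exact (hO (Over.homMk (s.snd.app T' x) rfl : Over.mk (s.snd.app T' x ≫ p.1) ⟶ Over.mk p.1)).2 ⟨_, e⟩ z
  · intro T' T'' m
    apply ConcreteCategory.hom_ext
    intro x
    show IsOpenImmersion.lift O.ι (s.snd.app T'' (s.pt.map m x)) _ =
      m.unop ≫ IsOpenImmersion.lift O.ι (s.snd.app T' x) _
    rw [← cancel_mono O.ι, Category.assoc, IsOpenImmersion.lift_fac, IsOpenImmersion.lift_fac]
    exact NatTrans.naturality_apply s.snd m x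
  · intro s
    ext T' x
    show IsOpenImmersion.lift O.ι (s.snd.app T' x) _ ≫ b = s.fst.app T' x
    set l := IsOpenImmersion.lift O.ι (s.snd.app T' x) _
    have hl : l ≫ O.ι = s.snd.app T' x := IsOpenImmersion.lift_fac _ _ _
    have h := (congrArg (fun e : s.pt ⟶ presheaf f d => e.app T' x) s.condition).trans (hη _)
    have h2 := congrArg (fun e : yoneda.obj O.toScheme ⟶ presheaf f d => e.app T' l) w
    refine (C.existsUnique_lift p hO (s.snd.app T' x) fun z => ?_).unique ?_ h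
    · rw [← hl]; exact (l z).2
    · refine h2.trans ?_
      show η.app T' (l ≫ O.ι) = _
      rw [hl]
      exact hη _
  · intro s
    ext T' x
    exact IsOpenImmersion.lift_fac _ _ _
  · intro s m _ h₂
    ext T' x
    show m.app T' x = IsOpenImmersion.lift O.ι (s.snd.app T' x) _
    rw [← cancel_mono O.ι, IsOpenImmersion.lift_fac]
    exact congrArg (fun e : s.pt ⟶ yoneda.obj T => e.app T' x) h₂

/-- The Hilbert functor of points is representable as soon as it is covered by charts. -/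
theorem representable_of_charts {κ : Type u} (C : κ → Chart f d)
    (hcov : ∀ (T : Over S) (Z : HilbD.Obj f d T) (t : T.left), ∃ (k : κ) (O : T.left.Opens), t ∈ O ∧
      ∃ h : Over.mk (O.ι ≫ T.hom) ⟶ (C k).U, HilbD.pull f h (C k).Z.1 =
        HilbD.pull f (Over.homMk O.ι rfl : Over.mk (O.ι ≫ T.hom) ⟶ T) Z.1) :
    HilbD.Representable f d := by
  let F : Sheaf Scheme.zariskiTopology (Type u) := ⟨presheaf f d, isSheaf_presheaf⟩
  let η : ∀ k, yoneda.obj (C k).U.left ⟶ F.1 := fun k => (C k).toPresheaf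
  have : Presheaf.IsLocallySurjective Scheme.zariskiTopology (Sigma.desc η) := ⟨fun {T} s => by
    choose k O htO h hh using hcov (Over.mk (s : Pt f d T).1) (s : Pt f d T).2
    have htop : IsOpenCover O := top_le_iff.1 fun z _ => Opens.mem_iSup.2 ⟨z, htO z⟩
    refine GrothendieckTopology.superset_covering _ ?_
      (Scheme.openCoverOfIsOpenCover T O htop).mem_grothendieckTopology
    rw [Sieve.ofArrows, Sieve.generate_le_iff]
    rintro _ _ ⟨z⟩
    refine ⟨(Sigma.ι (fun i => yoneda.obj (C i).U.left) (k z)).app _ (h z).left, ?_⟩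
    rw [← NatTrans.comp_app_apply, Sigma.ι_desc]
    exact ((C (k z)).map_eq_iff' (s : Pt f d T) (O z).ι (h z).left).2
      ⟨Over.w (h z), (pull_congr rfl _).trans (hh z)⟩⟩
  obtain ⟨R, ⟨e⟩⟩ := Scheme.LocalRepresentability.isRepresentable (F := F) (f := η) fun k =>
    (C k).presheaf_toPresheaf
  let ξ : Pt f d R := e.homEquiv (𝟙 R)
  have he : ∀ {T : Scheme.{u}} (g : T ⟶ R), e.homEquiv g = Pt.map g ξ := fun g => e.homEquiv_eq g
  refine ⟨Over.mk ξ.1, ξ.2, fun T Z' => ?_⟩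
  obtain ⟨g, hg⟩ := e.homEquiv.surjective (⟨T.hom, Z'⟩ : Pt f d T.left)
  obtain ⟨w, hw⟩ := (map_eq_iff _ _ _).1 ((he g).symm.trans hg)
  refine ⟨Over.homMk g w, hw, fun g' hg' => ?_⟩
  ext
  refine e.homEquiv.injective (hg.symm ▸ ?_)
  rw [he]
  exact (map_eq_iff _ _ _).2 ⟨Over.w g', (pull_congr rfl _).trans hg'⟩

end Groth.Agent.HilbRep25
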