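import Groth.Agent.Lib.HilbRep25.Ring
import Groth.Agent.Lib.HilbBC25.Basic
import Mathlib.RingTheory.TensorProduct.Free
import Mathlib.AlgebraicGeometry.Morphisms.Finite

/-!
# Families of closed subschemes given by quotients of `R ⊗ C`
-/

set_option autoImplicit false
set_option maxHeartbeats 400000
set_option linter.style.haveILetI false
set_option backward.isDefEq.respectTransparency.types false

universe u

open CategoryTheory CategoryTheory.Limits AlgebraicGeometry TopologicalSpace TensorProduct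

namespace Groth.Agent.HilbRep25

/-- An affine open `Spec C` of `X` over an affine open `Spec A` of `S`. -/
structure Frame {X S : Scheme.{u}} (f : X ⟶ S) (A C : Type u) [CommRing A] [CommRing C] [Algebra A C] where
  /-- the open in the base -/
  vA : Spec (CommRingCat.of A) ⟶ S
  /-- the open in `X` -/
  uC : Spec (CommRingCat.of C) ⟶ X
  isOpen_vA : IsOpenImmersion vA
  isOpen_uC : IsOpenImmersion uC
  w : uC ≫ f = Spec.map (CommRingCat.ofHom (algebraMap A C)) ≫ vA

attribute [instance] Frame.isOpen_vA Frame.isOpen_uC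

variable {X S : Scheme.{u}} {f : X ⟶ S} {A C : Type u} [CommRing A] [CommRing C] [Algebra A C]
  (F : Frame f A C)

/-- `Spec R` as an `S`-scheme. -/
noncomputable abbrev Frame.TR (R : Type u) [CommRing R] [Algebra A R] : Over S :=
  Over.mk (Spec.map (CommRingCat.ofHom (algebraMap A R)) ≫ F.vA)

/-- The morphism of `S`-schemes of an algebra map. -/
noncomputable def Frame.homMap {R R' : Type u} [CommRing R] [Algebra A R] [CommRing R'] [Algebra A R']
    (g : R →ₐ[A] R') : F.TR R' ⟶ F.TR R :=
  Over.homMk (Spec.map (CommRingCat.ofHom g.toRingHom)) (by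
    show Spec.map _ ≫ Spec.map _ ≫ F.vA = Spec.map _ ≫ F.vA
    rw [← Spec.map_comp_assoc]
    congr 2
    ext a
    exact g.commutes a)

theorem Frame.exists_homMap_eq {R R' : Type u} [CommRing R] [Algebra A R] [CommRing R'] [Algebra A R']
    (h : F.TR R' ⟶ F.TR R) : ∃ g : R →ₐ[A] R', F.homMap g = h := by
  obtain ⟨φ, hφ⟩ := Spec.map_surjective (R := CommRingCat.of R) (S := CommRingCat.of R') h.left
  have hw : h.left ≫ Spec.map (CommRingCat.ofHom (algebraMap A R)) ≫ F.vA =
      Spec.map (CommRingCat.ofHom (algebraMap A R')) ≫ F.vA := Over.w h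
  rw [← hφ, ← Category.assoc, cancel_mono, ← Spec.map_comp] at hw
  have hw' := Spec.map_injective hw
  exact ⟨{ φ.hom with commutes' := fun a => congr($(hw').hom a) }, Over.OverMorphism.ext hφ⟩

section iota

variable {R : Type u} [CommRing R] [Algebra A R] {Q : Type u} [CommRing Q] [Algebra A Q] [Algebra R Q]
  [IsScalarTower A R Q] (γ : C →ₐ[A] Q)

variable (R) in
/-- The morphism to `X_R` of a quotient. -/
noncomputable def Frame.iota : Spec (CommRingCat.of Q) ⟶ PicF.XT f (F.TR R) :=
  pullback.lift (Spec.map (CommRingCat.ofHom γ.toRingHom) ≫ F.uC)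
    (Spec.map (CommRingCat.ofHom (algebraMap R Q))) (by
      rw [Category.assoc, F.w, ← Spec.map_comp_assoc]
      show _ = Spec.map _ ≫ Spec.map _ ≫ F.vA
      rw [← Spec.map_comp_assoc]
      congr 2
      ext a
      exact (γ.commutes a).trans (IsScalarTower.algebraMap_apply A R Q a))

theorem Frame.iota_fst :
    F.iota R γ ≫ pullback.fst f (F.TR R).hom = Spec.map (CommRingCat.ofHom γ.toRingHom) ≫ F.uC :=
  pullback.lift_fst _ _ _

theorem Frame.iota_proj :
    F.iota R γ ≫ PicF.XTproj f (F.TR R) = Spec.map (CommRingCat.ofHom (algebraMap R Q)) :=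
  pullback.lift_snd _ _ _

theorem Frame.iota_mono (h : Function.Surjective (presentation (R := R) γ)) : Mono (F.iota R γ) := by
  refine ⟨fun {W} a b e => ?_⟩
  have e₁ := congrArg (· ≫ pullback.fst f (F.TR R).hom) e
  have e₂ := congrArg (· ≫ PicF.XTproj f (F.TR R)) e
  simp only [Category.assoc, F.iota_fst γ, F.iota_proj γ] at e₁ e₂
  rw [← Category.assoc, ← Category.assoc, cancel_mono] at e₁
  haveI : IsClosedImmersion (Spec.map (CommRingCat.ofHom (presentation (R := R) γ).toRingHom)) :=
    IsClosedImmersion.spec_of_surjective _ h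
  rw [← cancel_mono (Spec.map (CommRingCat.ofHom (presentation (R := R) γ).toRingHom))]
  have k₁ : (CommRingCat.ofHom Algebra.TensorProduct.includeLeftRingHom : CommRingCat.of R ⟶ _) ≫
      CommRingCat.ofHom (presentation (R := R) γ).toRingHom = CommRingCat.ofHom (algebraMap R Q) := by
    ext r; simp [presentation]
  have k₂ : (CommRingCat.ofHom (Algebra.TensorProduct.includeRight (R := A) (A := R) (B := C)).toRingHom) ≫
      CommRingCat.ofHom (presentation (R := R) γ).toRingHom = CommRingCat.ofHom γ.toRingHom := by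
    ext r; simp [presentation]
  refine (isPullback_SpecMap_of_isPushout _ _ _ _ (CommRingCat.isPushout_tensorProduct A R C)).hom_ext ?_ ?_
  · simp only [Category.assoc, ← Spec.map_comp, k₁]
    exact e₂
  · simp only [Category.assoc, ← Spec.map_comp, k₂]
    exact e₁

variable [IsSeparated f]

theorem Frame.isClosedImmersion_iota [Module.Finite R Q] (h : Function.Surjective (presentation (R := R) γ)) :
    IsClosedImmersion (F.iota R γ) := by
  rw [IsClosedImmersion.iff_isFinite_and_mono]
  refine ⟨?_, F.iota_mono γ h⟩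
  haveI : IsFinite (F.iota R γ ≫ PicF.XTproj f (F.TR R)) := by
    rw [F.iota_proj γ, IsFinite.SpecMap_iff]
    exact RingHom.finite_algebraMap.2 ‹_›
  exact IsFinite.of_comp _ (PicF.XTproj f (F.TR R))

theorem isFinLocFreeOfDeg_ker {d : ℕ} {Z Y T : Scheme.{u}} (i : Z ⟶ Y) [IsClosedImmersion i] (p : Y ⟶ T)
    (h : Mor2.IsFinLocFreeOfDeg d (i ≫ p)) :
    Mor2.IsFinLocFreeOfDeg d (i.ker.subschemeι ≫ p) := by
  obtain ⟨⟨h₁, h₂, h₃⟩, h₄⟩ := h
  have e : i.ker.subschemeι ≫ p = inv i.toImage ≫ i ≫ p := by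
    rw [← Category.assoc]
    congr 1
    rw [IsIso.eq_inv_comp]
    exact i.toImage_imageι
  rw [e]
  exact ⟨⟨inferInstance, inferInstance, inferInstance⟩, fun y => by
    rw [Scheme.Hom.finrank_comp_left_of_isIso]; exact h₄ y⟩

variable {d : ℕ} {β : Fin d → C} (b : Module.Basis (Fin d) R Q) (hb : ∀ i, b i = γ (β i))

include hb in
theorem Frame.isFinLocFreeOfDeg_iota :
    Mor2.IsFinLocFreeOfDeg d ((F.iota R γ).ker.subschemeι ≫ PicF.XTproj f (F.TR R)) := by
  haveI := Module.Free.of_basis b
  haveI := Module.Finite.of_basis b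
  haveI := Module.finitePresentation_of_projective R Q
  haveI := F.isClosedImmersion_iota γ (presentation_surjective (β := β) γ b hb)
  refine isFinLocFreeOfDeg_ker (F.iota R γ) _ ?_
  rw [F.iota_proj γ]
  refine ⟨⟨?_, ?_, ?_⟩, fun y => ?_⟩
  · rw [IsFinite.SpecMap_iff]
    exact RingHom.finite_algebraMap.2 inferInstance
  · rw [Flat.SpecMap_iff]
    exact RingHom.flat_algebraMap_iff.2 inferInstance
  · rw [LocallyOfFinitePresentation.SpecMap_iff]
    exact RingHom.finitePresentation_algebraMap.2 ((Module.FinitePresentation.iff_finitePresentation_of_finite R Q).1 inferInstance)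
  · rw [Scheme.Hom.finrank_SpecMap_algebraMap]
    haveI : Nontrivial R := (y : PrimeSpectrum R).nontrivial
    rw [Module.rankAtStalk_eq_finrank_of_free]
    exact (Module.finrank_eq_card_basis b).trans (Fintype.card_fin d)

/-- The family of a quotient with basis. -/
noncomputable def Frame.fam : HilbD.Obj f d (F.TR R) := ⟨(F.iota R γ).ker, F.isFinLocFreeOfDeg_iota γ b hb⟩

end iota

variable [IsSeparated f]

theorem Frame.exists_algEquiv_of_ker_eq {R : Type u} [CommRing R] [Algebra A R] {Q Q' : Type u} [CommRing Q]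
    [Algebra A Q] [Algebra R Q] [IsScalarTower A R Q] [CommRing Q'] [Algebra A Q'] [Algebra R Q']
    [IsScalarTower A R Q'] (γ : C →ₐ[A] Q) (γ' : C →ₐ[A] Q') [IsClosedImmersion (F.iota R γ)]
    [IsClosedImmersion (F.iota R γ')] (h : (F.iota R γ).ker = (F.iota R γ').ker) :
    ∃ ε : Q' ≃ₐ[R] Q, ∀ c, ε (γ' c) = γ c := by
  obtain ⟨ψ, hψ⟩ := Spec.map_surjective (IsClosedImmersion.lift (F.iota R γ') (F.iota R γ) h.ge)
  obtain ⟨ψ', hψ'⟩ := Spec.map_surjective (IsClosedImmersion.lift (F.iota R γ) (F.iota R γ') h.le)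
  have e : Spec.map ψ ≫ F.iota R γ' = F.iota R γ := by rw [hψ]; simp
  have e' : Spec.map ψ' ≫ F.iota R γ = F.iota R γ' := by rw [hψ']; simp
  have i₁ : ψ ≫ ψ' = 𝟙 _ := by
    refine Spec.map_injective ?_
    rw [← cancel_mono (F.iota R γ'), Spec.map_comp, Category.assoc, e, e', Spec.map_id, Category.id_comp]
  have i₂ : ψ' ≫ ψ = 𝟙 _ := by
    refine Spec.map_injective ?_
    rw [← cancel_mono (F.iota R γ), Spec.map_comp, Category.assoc, e', e, Spec.map_id, Category.id_comp]
  have hR : CommRingCat.ofHom (algebraMap R Q') ≫ ψ = CommRingCat.ofHom (algebraMap R Q) := by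
    refine Spec.map_injective ?_
    rw [Spec.map_comp, ← F.iota_proj γ', ← Category.assoc, e, F.iota_proj γ]
  have hC : CommRingCat.ofHom γ'.toRingHom ≫ ψ = CommRingCat.ofHom γ.toRingHom := by
    refine Spec.map_injective ?_
    rw [← cancel_mono F.uC, Spec.map_comp, Category.assoc, ← F.iota_fst (R := R) γ', ← Category.assoc, e,
      F.iota_fst γ]
  let φ : Q' →ₐ[R] Q := { ψ.hom with commutes' := fun r => congr($(hR).hom r) }
  have hbij : Function.Bijective φ :=
    ⟨Function.LeftInverse.injective (g := ψ'.hom) fun q => congr($(i₁).hom q),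
      Function.RightInverse.surjective (g := ψ'.hom) fun q => congr($(i₂).hom q)⟩
  exact ⟨AlgEquiv.ofBijective φ hbij, fun c => congr($(hC).hom c)⟩

variable {d : ℕ} {β : Fin d → C}

section zOf

variable {R : Type u} [CommRing R] [Algebra A R] {x : C → Fin d → R} (hx : IsCoord A β x)

/-- The quotient map of the coordinates. -/
noncomputable def coordMap : C →ₐ[A] (R ⊗[A] C) ⧸ coordIdeal β x :=
  (Ideal.Quotient.mkₐ A (coordIdeal β x)).comp Algebra.TensorProduct.includeRight

/-- The family with given coordinates. -/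
noncomputable def Frame.zOf : HilbD.Obj f d (F.TR R) :=
  F.fam (coordMap (β := β) (x := x)) (coordBasis hx) (fun i => coordBasis_apply hx i)

theorem repr_coordBasis (c : C) (i : Fin d) :
    (coordBasis hx).repr (coordMap (β := β) (x := x) c) i = x c i := by
  have : coordMap (β := β) (x := x) c = ∑ j, x c j • coordBasis hx j := by
    simp only [coordBasis_apply]
    exact mk_one_tmul c
  rw [this, Module.Basis.repr_sum_self]

theorem Frame.fam_eq_zOf {Q : Type u} [CommRing Q] [Algebra A Q] [Algebra R Q] [IsScalarTower A R Q]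
    (γ : C →ₐ[A] Q) (b : Module.Basis (Fin d) R Q) (hb : ∀ i, b i = γ (β i))
    (hxb : ∀ c i, b.repr (γ c) i = x c i) : (F.fam γ b hb).1 = (F.zOf hx).1 := by
  obtain rfl : x = fun c i => b.repr (γ c) i := funext fun c => funext fun i => (hxb c i).symm
  obtain ⟨ε', hε'⟩ : ∃ ε' : ((R ⊗[A] C) ⧸ coordIdeal β fun c i => b.repr (γ c) i) ≃ₐ[R] Q,
      ∀ z, ε' (Ideal.Quotient.mk _ z) = presentation (R := R) γ z := by
    rw [← ker_presentation γ b hb]
    exact ⟨Ideal.quotientKerAlgEquivOfSurjective (presentation_surjective (R := R) (β := β) γ b hb),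
      fun z => Ideal.quotientKerAlgEquivOfSurjective_mk _ _⟩
  have e : Spec.map (CommRingCat.ofHom ε'.toRingEquiv.toRingHom) ≫
      F.iota R (coordMap (β := β) (x := fun c i => b.repr (γ c) i)) = F.iota R γ := by
    apply pullback.hom_ext
    · rw [Category.assoc, F.iota_fst, F.iota_fst, ← Spec.map_comp_assoc]
      congr 2
      ext c
      refine (hε' ((1 : R) ⊗ₜ[A] c)).trans ?_
      simp [presentation]
    · rw [Category.assoc, F.iota_proj, F.iota_proj, ← Spec.map_comp]
      congr 1
      ext r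
      exact ε'.commutes r
  show (F.iota R γ).ker = (F.iota R _).ker
  haveI : IsIso (CommRingCat.ofHom ε'.toRingEquiv.toRingHom) := (ε'.toRingEquiv.toCommRingCatIso).isIso_hom
  rw [← e, Scheme.Hom.ker_comp_of_isIso]

theorem Frame.zOf_inj {x' : C → Fin d → R} (hx' : IsCoord A β x') (h : (F.zOf hx).1 = (F.zOf hx').1) :
    x = x' := by
  haveI := Module.Finite.of_basis (coordBasis hx)
  haveI := Module.Finite.of_basis (coordBasis hx')
  haveI := F.isClosedImmersion_iota (coordMap (β := β) (x := x))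
    (presentation_surjective (β := β) _ (coordBasis hx) (fun i => coordBasis_apply hx i))
  haveI := F.isClosedImmersion_iota (coordMap (β := β) (x := x'))
    (presentation_surjective (β := β) _ (coordBasis hx') (fun i => coordBasis_apply hx' i))
  obtain ⟨ε, hε⟩ := F.exists_algEquiv_of_ker_eq _ _ h
  have hb : (coordBasis hx').map ε.toLinearEquiv = coordBasis hx := Module.Basis.eq_of_apply_eq fun i => by
    rw [Module.Basis.map_apply, coordBasis_apply hx', coordBasis_apply hx]
    exact hε (β i)
  funext c i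
  rw [← repr_coordBasis hx c i, ← repr_coordBasis hx' c i, ← hb, ← hε c, Module.Basis.map_repr]
  simp

end zOf

/-- Pulling back the ideal of a closed immersion. -/
theorem pull_ker_of_isPullback {T T' : Over S} (g : T' ⟶ T) {Z Z' : Scheme.{u}} {i : Z ⟶ PicF.XT f T}
    [IsClosedImmersion i] {i' : Z' ⟶ PicF.XT f T'} {q : Z' ⟶ Z}
    (h : IsPullback i' q (PicF.XTmap f g) i) : HilbD.pull f g i.ker = i'.ker := by
  rw [HilbBC25.pull_eq_comap, ← Scheme.IdealSheafData.ker_fst_of_isClosedImmersion, ← h.isoPullback_hom_fst,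
    Scheme.Hom.ker_comp_of_isIso]

section baseChange

variable {R R' : Type u} [CommRing R] [Algebra A R] [CommRing R'] [Algebra A R'] [Algebra R R']
  [IsScalarTower A R R'] {Q : Type u} [CommRing Q] [Algebra A Q] [Algebra R Q] [IsScalarTower A R Q]
  (γ : C →ₐ[A] Q)

variable (R R') in
/-- The base change of a quotient. -/
noncomputable def bcMap : C →ₐ[A] R' ⊗[R] Q :=
  ((Algebra.TensorProduct.includeRight : Q →ₐ[R] R' ⊗[R] Q).restrictScalars A).comp γ

theorem Frame.isPullback_iota :
    IsPullback (F.iota R' (bcMap R R' γ))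
      (Spec.map (CommRingCat.ofHom (Algebra.TensorProduct.includeRight (R := R) (A := R') (B := Q)).toRingHom))
      (PicF.XTmap f (F.homMap (IsScalarTower.toAlgHom A R R'))) (F.iota R γ) := by
  have sq₁ : IsPullback (Spec.map (CommRingCat.ofHom (algebraMap R' (R' ⊗[R] Q))))
      (Spec.map (CommRingCat.ofHom (Algebra.TensorProduct.includeRight (R := R) (A := R') (B := Q)).toRingHom))
      (Spec.map (CommRingCat.ofHom (algebraMap R R'))) (Spec.map (CommRingCat.ofHom (algebraMap R Q))) :=
    isPullback_SpecMap_of_isPushout _ _ _ _ (CommRingCat.isPushout_tensorProduct R R' Q)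
  have sq₂ := (HilbBC25.isPullback_XTmap f (F.homMap (IsScalarTower.toAlgHom A R R'))).flip
  have hcomm : Spec.map (CommRingCat.ofHom (Algebra.TensorProduct.includeRight (R := R) (A := R') (B := Q)).toRingHom) ≫
      F.iota R γ = F.iota R' (bcMap R R' γ) ≫ PicF.XTmap f (F.homMap (IsScalarTower.toAlgHom A R R')) := by
    apply pullback.hom_ext
    · rw [Category.assoc, Category.assoc, F.iota_fst, HilbBC25.XTmap_fst, F.iota_fst, ← Spec.map_comp_assoc]
      rfl
    · rw [Category.assoc, Category.assoc, F.iota_proj, HilbBC25.XTmap_snd, ← Category.assoc, F.iota_proj]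
      exact sq₁.w.symm
  refine IsPullback.of_right (v₁₃ := Spec.map (CommRingCat.ofHom (algebraMap R R')))
    (h₁₂ := PicF.XTproj f (F.TR R')) (h₂₂ := PicF.XTproj f (F.TR R)) ?_ hcomm.symm sq₂
  rw [F.iota_proj, F.iota_proj]
  exact sq₁

theorem Frame.pull_ker_iota [IsClosedImmersion (F.iota R γ)] :
    HilbD.pull f (F.homMap (IsScalarTower.toAlgHom A R R')) (F.iota R γ).ker =
      (F.iota R' (bcMap R R' γ)).ker :=
  pull_ker_of_isPullback _ (F.isPullback_iota γ)

theorem Frame.isClosedImmersion_bc [IsClosedImmersion (F.iota R γ)] :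
    IsClosedImmersion (F.iota R' (bcMap R R' γ)) :=
  MorphismProperty.of_isPullback (P := @IsClosedImmersion) (F.isPullback_iota γ).flip ‹_›

end baseChange

theorem Frame.pull_zOf {R R' : Type u} [CommRing R] [Algebra A R] [CommRing R'] [Algebra A R']
    (g : R →ₐ[A] R') {x : C → Fin d → R} (hx : IsCoord A β x) :
    HilbD.pull f (F.homMap g) (F.zOf hx).1 = (F.zOf (hx.map g)).1 := by
  letI := g.toRingHom.toAlgebra
  haveI : IsScalarTower A R R' := .of_algebraMap_eq fun a => (g.commutes a).symm
  have hg : IsScalarTower.toAlgHom A R R' = g := AlgHom.ext fun r => rfl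
  haveI := Module.Finite.of_basis (coordBasis hx)
  haveI := F.isClosedImmersion_iota (coordMap (β := β) (x := x))
    (presentation_surjective (β := β) _ (coordBasis hx) (fun i => coordBasis_apply hx i))
  let b' := Algebra.TensorProduct.basis R' (coordBasis hx)
  have hb' : ∀ i, b' i = bcMap R R' (coordMap (β := β) (x := x)) (β i) := fun i => by
    rw [Algebra.TensorProduct.basis_apply, coordBasis_apply]
    rfl
  have h₁ : (F.fam (bcMap R R' (coordMap (β := β) (x := x))) b' hb').1 = (F.zOf (hx.map g)).1 :=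
    F.fam_eq_zOf (hx.map g) _ b' hb' fun c i => by
    show b'.repr ((1 : R') ⊗ₜ[R] coordMap (β := β) (x := x) c) i = g (x c i)
    rw [Algebra.TensorProduct.basis_repr_tmul, one_smul, Finsupp.mapRange_apply, repr_coordBasis]
    rfl
  rw [← h₁, ← hg]
  exact F.pull_ker_iota _

/-- A family lying in the affine open is given by an algebra. -/
theorem Frame.exists_data {R : Type u} [CommRing R] [Algebra A R] (Z : HilbD.Obj f d (F.TR R))
    (hrange : ∀ z, (Z.1.subschemeι ≫ pullback.fst f (F.TR R).hom) z ∈ Set.range F.uC) :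
    ∃ (Q : Type u) (_ : CommRing Q) (_ : Algebra A Q) (_ : Algebra R Q) (_ : IsScalarTower A R Q)
      (γ : C →ₐ[A] Q), Module.Finite R Q ∧ Module.Flat R Q ∧
      (∀ p, Module.rankAtStalk (R := R) Q p = d) ∧ IsClosedImmersion (F.iota R γ) ∧
      (F.iota R γ).ker = Z.1 := by
  obtain ⟨⟨hfin, hflat, -⟩, hdeg⟩ := Z.2
  let e : Z.1.subscheme ⟶ Spec (CommRingCat.of C) :=
    IsOpenImmersion.lift F.uC (Z.1.subschemeι ≫ pullback.fst f (F.TR R).hom)
      (by rintro _ ⟨z, rfl⟩; exact hrange z)
  let p : Z.1.subscheme ⟶ Spec (CommRingCat.of R) := Z.1.subschemeι ≫ PicF.XTproj f (F.TR R)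
  haveI : IsFinite p := hfin
  haveI : Flat p := hflat
  haveI : IsAffine Z.1.subscheme := isAffine_of_isAffineHom p
  let ι₀ := Z.1.subscheme.isoSpec
  obtain ⟨φ, hφ⟩ := Spec.map_surjective (ι₀.inv ≫ p)
  obtain ⟨ψ, hψ⟩ := Spec.map_surjective (ι₀.inv ≫ e)
  letI : Algebra R Γ(Z.1.subscheme, ⊤) := φ.hom.toAlgebra
  letI : Algebra A Γ(Z.1.subscheme, ⊤) := (φ.hom.comp (algebraMap A R)).toAlgebra
  haveI : IsScalarTower A R Γ(Z.1.subscheme, ⊤) := .of_algebraMap_eq fun a => rfl
  have hcomp : CommRingCat.ofHom (algebraMap A C) ≫ ψ =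
      CommRingCat.ofHom (algebraMap A R) ≫ φ := by
    refine Spec.map_injective ?_
    rw [← cancel_mono F.vA, Spec.map_comp, Spec.map_comp, Category.assoc, Category.assoc, hψ, hφ,
      Category.assoc, ← F.w, ← Category.assoc e, IsOpenImmersion.lift_fac]
    simp only [p, Category.assoc, pullback.condition]
    rfl
  let γ : C →ₐ[A] Γ(Z.1.subscheme, ⊤) := { ψ.hom with commutes' := fun a => congr($(hcomp).hom a) }
  have hι : F.iota R γ = ι₀.inv ≫ Z.1.subschemeι := by
    apply pullback.hom_ext
    · rw [F.iota_fst, Category.assoc, show CommRingCat.ofHom γ.toRingHom = ψ from rfl, hψ, Category.assoc,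
        IsOpenImmersion.lift_fac]
    · rw [F.iota_proj, Category.assoc, show CommRingCat.ofHom (algebraMap R Γ(Z.1.subscheme, ⊤)) = φ from rfl,
        hφ]
  have hfin' : Module.Finite R Γ(Z.1.subscheme, ⊤) := by
    rw [← RingHom.finite_algebraMap]
    show φ.hom.Finite
    rw [← IsFinite.SpecMap_iff, hφ]
    infer_instance
  have hflat' : Module.Flat R Γ(Z.1.subscheme, ⊤) := by
    rw [← RingHom.flat_algebraMap_iff]
    show φ.hom.Flat
    rw [← Flat.SpecMap_iff, hφ]
    infer_instance
  refine ⟨Γ(Z.1.subscheme, ⊤), inferInstance, inferInstance, inferInstance, inferInstance, γ, hfin', hflat',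
    fun q => ?_, ?_, ?_⟩
  · rw [← Scheme.Hom.finrank_SpecMap_algebraMap,
      show CommRingCat.ofHom (algebraMap R Γ(Z.1.subscheme, ⊤)) = φ from rfl, hφ,
      Scheme.Hom.finrank_comp_left_of_isIso]
    exact hdeg q
  · rw [hι]; infer_instance
  · rw [hι, Scheme.Hom.ker_comp_of_isIso, Scheme.IdealSheafData.ker_subschemeι]

end Groth.Agent.HilbRep25
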