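import Groth.Agent.Lib.HilbRep25.Chart
import Mathlib.RingTheory.Artinian.Module
import Mathlib.RingTheory.Ideal.Quotient.Operations

/-!
# Representability of the Hilbert functor of points
-/

set_option autoImplicit false
set_option maxHeartbeats 400000
set_option linter.style.haveILetI false
set_option backward.isDefEq.respectTransparency.types false

universe u

open CategoryTheory CategoryTheory.Limits AlgebraicGeometry TopologicalSpace TensorProduct

namespace Groth.Agent.HilbRep25

/-- A finite algebra over a field has at most as many points as its dimension. -/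
theorem card_primeSpectrum_le (K Q : Type u) [Field K] [CommRing Q] [Algebra K Q] [Module.Finite K Q] :
    Finite (PrimeSpectrum Q) ∧ Nat.card (PrimeSpectrum Q) ≤ Module.finrank K Q := by
  haveI : IsArtinianRing Q := IsArtinianRing.of_finite K Q
  haveI : Fintype (PrimeSpectrum Q) := Fintype.ofFinite _
  refine ⟨inferInstance, ?_⟩
  have hcop : Pairwise (Function.onFun IsCoprime fun p : PrimeSpectrum Q => p.asIdeal) := fun p q hpq =>
    Ideal.isCoprime_of_isMaximal fun e => hpq (PrimeSpectrum.ext e)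
  have hs := Ideal.pi_mkQ_surjective hcop
  have hle : Module.finrank K (∀ p : PrimeSpectrum Q, Q ⧸ p.asIdeal) ≤ Module.finrank K Q :=
    LinearMap.finrank_le_finrank_of_surjective
      (f := (LinearMap.pi fun p : PrimeSpectrum Q => (p.asIdeal).mkQ).restrictScalars K) hs
  refine le_trans ?_ hle
  rw [Module.finrank_pi_fintype, Nat.card_eq_fintype_card, Fintype.card, Finset.card_eq_sum_ones]
  exact Finset.sum_le_sum fun p _ => Module.finrank_pos

theorem exists_fin_range {α : Type*} {P : Set α} (hP : P.Finite) {d : ℕ} (hcard : P.ncard ≤ d)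
    (hne : P = ∅ → d = 0) : ∃ x : Fin d → α, Set.range x = P := by
  rcases P.eq_empty_or_nonempty with h | ⟨a, ha⟩
  · obtain rfl := hne h
    exact ⟨Fin.elim0, by rw [h]; exact Set.range_eq_empty _⟩
  · haveI := hP.to_subtype
    haveI : Nonempty P := ⟨⟨a, ha⟩⟩
    obtain ⟨e⟩ : Nonempty (P ↪ Fin d) := by
      haveI := Fintype.ofFinite P
      refine Function.Embedding.nonempty_of_card_le ?_
      rwa [Fintype.card_fin, ← Nat.card_eq_fintype_card]
    refine ⟨fun i => (Function.invFun e i).1, Set.eq_of_subset_of_subset ?_ fun z hz =>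
      ⟨e ⟨z, hz⟩, by simp [Function.leftInverse_invFun e.injective _]⟩⟩
    rintro _ ⟨i, rfl⟩
    exact (Function.invFun e i).2

/-- Prime avoidance in an affine open. -/
theorem exists_basicOpen_superset {X : Scheme.{u}} {U : X.Opens} (hU : IsAffineOpen U) {W : X.Opens}
    (hW : W ≤ U) {P : Set X} (hP : P.Finite) (hPW : P ⊆ W) : ∃ g : Γ(X, U), P ⊆ X.basicOpen g ∧ X.basicOpen g ≤ W := by
  obtain ⟨I, hI⟩ := (PrimeSpectrum.isClosed_iff_zeroLocus_ideal _).1
    (hU.fromSpec ⁻¹ᵁ W).2.isClosed_compl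
  let q := fun x : P => hU.primeIdealOf ⟨x.1, hW (hPW x.2)⟩
  have hq : ∀ x : P, hU.fromSpec (q x) = x.1 := fun x => hU.fromSpec_primeIdealOf _
  haveI := hP.to_subtype
  obtain ⟨g, hgI, hg⟩ : ∃ g ∈ I, ∀ x, g ∉ (q x).asIdeal := by
    by_contra hcon
    push Not at hcon
    rcases isEmpty_or_nonempty P with he | ⟨⟨x₀⟩⟩
    · exact isEmptyElim (hcon 0 I.zero_mem).choose
    have hsub : (I : Set Γ(X, U)) ⊆ ⋃ x ∈ (Set.univ : Set P), ((q x).asIdeal : Set Γ(X, U)) := fun g hg => by
      obtain ⟨x, hx⟩ := hcon g hg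
      exact Set.mem_biUnion (Set.mem_univ x) hx
    obtain ⟨x, -, hle⟩ := (Ideal.subset_union_prime_finite Set.finite_univ (f := fun x => (q x).asIdeal)
      x₀ x₀ fun x _ _ _ => (q x).isPrime).1 hsub
    have h1 : q x ∈ PrimeSpectrum.zeroLocus (I : Set Γ(X, U)) := hle
    rw [← hI] at h1
    exact h1 (by show hU.fromSpec (q x) ∈ W; rw [hq]; exact hPW x.2)
  refine ⟨g, fun x hx => ?_, ?_⟩
  · show x ∈ X.basicOpen g
    rw [show x = hU.fromSpec (q ⟨x, hx⟩) from (hq ⟨x, hx⟩).symm, ← hU.fromSpec_image_basicOpen]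
    exact ⟨q ⟨x, hx⟩, hg ⟨x, hx⟩, rfl⟩
  · rw [← hU.fromSpec_image_basicOpen]
    rintro _ ⟨z, hz, rfl⟩
    by_contra hn
    have h1 : z ∈ (hU.fromSpec ⁻¹ᵁ W).carrierᶜ := hn
    have h2 : z ∈ PrimeSpectrum.zeroLocus (I : Set Γ(X, U)) := hI ▸ h1
    exact hz (h2 hgI)

variable {X S : Scheme.{u}} {f : X ⟶ S}

theorem Frame.presentation_surjective_of_isClosedImmersion [IsSeparated f] {A C : Type u} [CommRing A] [CommRing C]
    [Algebra A C] (F : Frame f A C) {R : Type u} [CommRing R] [Algebra A R] {Q : Type u} [CommRing Q] [Algebra A Q]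
    [Algebra R Q] [IsScalarTower A R Q] (γ : C →ₐ[A] Q) [IsClosedImmersion (F.iota R γ)] :
    Function.Surjective (presentation (R := R) γ) := by
  let j : Spec (CommRingCat.of (R ⊗[A] C)) ⟶ PicF.XT f (F.TR R) := pullback.lift
    (Spec.map (CommRingCat.ofHom (Algebra.TensorProduct.includeRight (R := A) (A := R) (B := C)).toRingHom) ≫ F.uC)
    (Spec.map (CommRingCat.ofHom Algebra.TensorProduct.includeLeftRingHom)) (by
      rw [Category.assoc, F.w, ← Spec.map_comp_assoc]
      show _ = Spec.map _ ≫ Spec.map _ ≫ F.vA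
      rw [← Spec.map_comp_assoc]
      congr 2
      ext a
      exact ((Algebra.TensorProduct.includeRight : C →ₐ[A] R ⊗[A] C).commutes a).trans
        (by rfl))
  have hj : Spec.map (CommRingCat.ofHom (presentation (R := R) γ).toRingHom) ≫ j = F.iota R γ := by
    apply pullback.hom_ext
    · rw [Category.assoc, pullback.lift_fst, F.iota_fst, ← Spec.map_comp_assoc]
      congr 2
      ext c
      simp [presentation]
    · rw [Category.assoc, pullback.lift_snd, F.iota_proj, ← Spec.map_comp]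
      congr 1
      ext r
      simp [presentation]
  haveI : IsClosedImmersion (Spec.map (CommRingCat.ofHom (presentation (R := R) γ).toRingHom) ≫ j) := by
    rw [hj]; infer_instance
  haveI : IsSeparated j := inferInstance
  haveI h1 : IsClosedImmersion (Spec.map (CommRingCat.ofHom (presentation (R := R) γ).toRingHom)) :=
    MorphismProperty.of_postcomp @IsClosedImmersion _ j ‹IsSeparated j› ‹_›
  obtain ⟨-, hs⟩ := IsClosedImmersion.isAffine_surjective_of_isAffine
    (f := Spec.map (CommRingCat.ofHom (presentation (R := R) γ).toRingHom))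
  intro q
  obtain ⟨z, hz⟩ := hs ((Scheme.ΓSpecIso (CommRingCat.of Q)).inv q)
  refine ⟨(Scheme.ΓSpecIso _).hom z, ?_⟩
  have := congr($(Scheme.ΓSpecIso_naturality (CommRingCat.ofHom (presentation (R := R) γ).toRingHom)).hom z)
  simp only [CommRingCat.hom_comp, RingHom.comp_apply] at this
  rw [hz] at this
  exact this.symm.trans (congr($((Scheme.ΓSpecIso (CommRingCat.of Q)).inv_hom_id).hom q))

/-- The frame of a pair of affine opens. -/
noncomputable def frameOf (f : X ⟶ S) (V : S.affineOpens) (U : {U : X.affineOpens // U.1 ≤ f ⁻¹ᵁ V.1}) :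
    @Frame X S f Γ(S, V.1) Γ(X, U.1.1) _ _ (f.appLE V.1 U.1.1 U.2).hom.toAlgebra :=
  letI := (f.appLE V.1 U.1.1 U.2).hom.toAlgebra
  { vA := V.2.fromSpec
    uC := U.1.2.fromSpec
    isOpen_vA := inferInstance
    isOpen_uC := inferInstance
    w := (IsAffineOpen.SpecMap_appLE_fromSpec f V.2 U.1.2 U.2).symm }

/-- Hilbert functors of points are representable when finite sets in fibres lie in affine opens. -/
theorem representable_of_fibre_points [IsSeparated f] (d : ℕ)
    (h : ∀ (s : S) (x : Fin d → X), (∀ i, f.base (x i) = s) → ∃ U : X.Opens, IsAffineOpen U ∧ ∀ i, x i ∈ U) :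
    HilbD.Representable f d := by
  let κ : Type u := Σ (V : S.affineOpens) (U : {U : X.affineOpens // U.1 ≤ f ⁻¹ᵁ V.1}), Fin d → Γ(X, U.1.1)
  let C : κ → Chart f d := fun k =>
    letI := (f.appLE k.1.1 k.2.1.1.1 k.2.1.2).hom.toAlgebra
    (frameOf f k.1 k.2.1).chart k.2.2
  refine representable_of_charts C fun T Z t => ?_
  let p : Z.1.subscheme ⟶ T.left := Z.1.subschemeι ≫ PicF.XTproj f T
  let π : Z.1.subscheme ⟶ X := Z.1.subschemeι ≫ pullback.fst f T.hom
  let Tk : Over S := Over.mk (T.left.fromSpecResidueField t ≫ T.hom)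
  let a₀ : Tk ⟶ T := Over.homMk (T.left.fromSpecResidueField t) rfl
  let K := T.left.residueField t
  let Zk : HilbD.Obj f d Tk := ⟨HilbD.pull f a₀ Z.1, HilbBC25.isFinLocFreeOfDeg_pull f d a₀ Z.1 Z.2⟩
  -- the fibre
  let P : Set X := π '' (p ⁻¹' {t})
  obtain ⟨hPfin, hPcard, hPne⟩ : P.Finite ∧ P.ncard ≤ d ∧ (P = ∅ → d = 0) := by
    let pk : Zk.1.subscheme ⟶ Spec K := Zk.1.subschemeι ≫ PicF.XTproj f Tk
    haveI : IsFinite pk := Zk.2.1.1
    haveI : Flat pk := Zk.2.1.2.1
    haveI : IsAffine Zk.1.subscheme := isAffine_of_isAffineHom pk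
    obtain ⟨φ, hφ⟩ := Spec.map_surjective (Zk.1.subscheme.isoSpec.inv ≫ pk)
    letI : Algebra K Γ(Zk.1.subscheme, ⊤) := φ.hom.toAlgebra
    have hfin : Module.Finite K Γ(Zk.1.subscheme, ⊤) := by
      rw [← RingHom.finite_algebraMap]
      show φ.hom.Finite
      rw [← IsFinite.SpecMap_iff, hφ]
      infer_instance
    have hrk : Module.finrank K Γ(Zk.1.subscheme, ⊤) = d := by
      have h1 := Scheme.Hom.finrank_SpecMap_algebraMap K Γ(Zk.1.subscheme, ⊤) (⊥ : PrimeSpectrum K)
      rw [show CommRingCat.ofHom (algebraMap K Γ(Zk.1.subscheme, ⊤)) = φ from rfl, hφ,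
        Scheme.Hom.finrank_comp_left_of_isIso, Module.rankAtStalk_eq_finrank_of_free] at h1
      exact h1.symm.trans (Zk.2.2 _)
    obtain ⟨hfinQ, hcardQ⟩ := card_primeSpectrum_le K Γ(Zk.1.subscheme, ⊤)
    rw [hrk] at hcardQ
    have hrange : Set.range (Zk.1.subscheme.isoSpec.inv ≫ Zk.1.subschemeι ≫ pullback.fst f Tk.hom) = P := by
      rw [Scheme.Hom.comp_base, TopCat.coe_comp, Set.range_comp, Set.range_eq_univ.2
        (Zk.1.subscheme.isoSpec.inv).surjective, Set.image_univ]
      have hz : Set.range Zk.1.subschemeι = PicF.XTmap f a₀ ⁻¹' Set.range Z.1.subschemeι := by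
        rw [Scheme.IdealSheafData.range_subschemeι]
        show ((HilbD.pull f a₀ Z.1).support : Set (PicF.XT f Tk)) = _
        rw [HilbBC25.pull_eq_comap, Scheme.IdealSheafData.support_comap, TopologicalSpace.Closeds.coe_preimage,
          ← Scheme.IdealSheafData.range_subschemeι]
      have hproj : ∀ y : PicF.XT f Tk, PicF.XTproj f T (PicF.XTmap f a₀ y) = t := fun y => by
        rw [← Scheme.Hom.comp_apply, HilbBC25.XTmap_snd, Scheme.Hom.comp_apply]
        exact Scheme.fromSpecResidueField_apply _ _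
      refine Set.eq_of_subset_of_subset ?_ ?_
      · rintro _ ⟨z, rfl⟩
        obtain ⟨z', hz'⟩ : PicF.XTmap f a₀ (Zk.1.subschemeι z) ∈ Set.range Z.1.subschemeι := by
          have : Zk.1.subschemeι z ∈ Set.range Zk.1.subschemeι := ⟨z, rfl⟩
          rwa [hz] at this
        refine ⟨z', ?_, ?_⟩
        · show PicF.XTproj f T (Z.1.subschemeι z') = t
          rw [hz']
          exact hproj _
        · show pullback.fst f T.hom (Z.1.subschemeι z') = _
          rw [hz', ← Scheme.Hom.comp_apply, HilbBC25.XTmap_fst]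
          rfl
      · rintro _ ⟨z, hzt, rfl⟩
        have hzt' : PicF.XTproj f T (Z.1.subschemeι z) = t := hzt
        obtain ⟨y, hy, -⟩ := Scheme.exists_preimage_of_isPullback (HilbBC25.isPullback_XTmap f a₀)
          (Z.1.subschemeι z) (⊥ : PrimeSpectrum K) (hzt'.trans (Scheme.fromSpecResidueField_apply _ _).symm)
        have : y ∈ Set.range Zk.1.subschemeι := by rw [hz]; exact ⟨z, hy.symm⟩
        obtain ⟨w, rfl⟩ := this
        refine ⟨w, ?_⟩
        show pullback.fst f Tk.hom (Zk.1.subschemeι w) = pullback.fst f T.hom (Z.1.subschemeι z)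
        rw [← hy, ← Scheme.Hom.comp_apply (PicF.XTmap f a₀), HilbBC25.XTmap_fst]
    haveI : Finite ↥(Spec Γ(Zk.1.subscheme, ⊤)) := hfinQ
    refine ⟨hrange ▸ Set.finite_range _, ?_, fun hP => ?_⟩
    · rw [← hrange, ← Nat.card_coe_set_eq]
      exact (Finite.card_range_le _).trans hcardQ
    · rw [← hrange, Set.range_eq_empty_iff] at hP
      haveI : IsEmpty (PrimeSpectrum Γ(Zk.1.subscheme, ⊤)) := hP
      haveI : Subsingleton Γ(Zk.1.subscheme, ⊤) := PrimeSpectrum.isEmpty_iff_subsingleton.1 inferInstance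
      rw [← hrk]
      exact Module.finrank_zero_of_subsingleton
  obtain ⟨x, hx⟩ := exists_fin_range hPfin hPcard hPne
  have hxs : ∀ i, f.base (x i) = T.hom t := fun i => by
    obtain ⟨z, hz, e⟩ := hx ▸ (Set.mem_range_self i : x i ∈ Set.range x)
    rw [← e]
    show f (π z) = T.hom t
    have hz' : p z = t := hz
    rw [← hz', ← Scheme.Hom.comp_apply, ← Scheme.Hom.comp_apply]
    simp only [π, p, Category.assoc, pullback.condition]
  obtain ⟨U₀, hU₀, hxU₀⟩ := h (T.hom t) x hxs
  obtain ⟨_, ⟨V, hV, rfl⟩, htV, -⟩ :=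
    S.isBasis_affineOpens.exists_subset_of_mem_open (Set.mem_univ (T.hom t)) isOpen_univ
  obtain ⟨g, hgP, hgW⟩ := exists_basicOpen_superset hU₀ (W := U₀ ⊓ f ⁻¹ᵁ V) inf_le_left hPfin (by
    rw [← hx]
    rintro _ ⟨i, rfl⟩
    exact ⟨hxU₀ i, by show f (x i) ∈ V; rw [hxs i]; exact htV⟩)
  let V' : S.affineOpens := ⟨V, hV⟩
  let U' : {U : X.affineOpens // U.1 ≤ f ⁻¹ᵁ V'.1} := ⟨⟨X.basicOpen g, hU₀.basicOpen g⟩, hgW.trans inf_le_right⟩
  letI := (f.appLE V'.1 U'.1.1 U'.2).hom.toAlgebra
  let F := frameOf f V' U'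
  -- the point
  have hsub : Set.range (T.left.fromSpecResidueField t ≫ T.hom) ⊆ Set.range F.vA := by
    rintro _ ⟨z, rfl⟩
    rw [Scheme.Hom.comp_apply, Scheme.fromSpecResidueField_apply]
    show T.hom t ∈ Set.range hV.fromSpec
    rw [hV.range_fromSpec]
    exact htV
  obtain ⟨φA, hφA⟩ := Spec.map_surjective (IsOpenImmersion.lift F.vA _ hsub)
  letI : Algebra Γ(S, V'.1) K := φA.hom.toAlgebra
  let a : F.TR K ⟶ T := Over.homMk (T.left.fromSpecResidueField t) (by
    show _ = Spec.map φA ≫ F.vA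
    rw [hφA, IsOpenImmersion.lift_fac])
  let ZR : HilbD.Obj f d (F.TR K) := ⟨HilbD.pull f a Z.1, HilbBC25.isFinLocFreeOfDeg_pull f d a Z.1 Z.2⟩
  have hrangeC : ∀ z, (ZR.1.subschemeι ≫ pullback.fst f (F.TR K).hom) z ∈ Set.range F.uC := by
    intro z
    have hz : ZR.1.subschemeι z ∈ (ZR.1.support : Set _) := by
      rw [← Scheme.IdealSheafData.range_subschemeι]; exact ⟨z, rfl⟩
    have hsupp : (ZR.1.support : Set (PicF.XT f (F.TR K))) = PicF.XTmap f a ⁻¹' Set.range Z.1.subschemeι := by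
      show ((HilbD.pull f a Z.1).support : Set (PicF.XT f (F.TR K))) = _
      rw [HilbBC25.pull_eq_comap, Scheme.IdealSheafData.support_comap, TopologicalSpace.Closeds.coe_preimage,
        ← Scheme.IdealSheafData.range_subschemeι]
    rw [hsupp] at hz
    obtain ⟨z', hz'⟩ := hz
    have e : π z' = (ZR.1.subschemeι ≫ pullback.fst f (F.TR K).hom) z := by
      rw [← HilbBC25.XTmap_fst f a]
      simp only [π, Scheme.Hom.comp_apply]
      exact congrArg _ hz'
    rw [← e]
    show π z' ∈ Set.range (U'.1.2).fromSpec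
    rw [U'.1.2.range_fromSpec]
    refine hgP ⟨z', ?_, rfl⟩
    show PicF.XTproj f T (Z.1.subschemeι z') = t
    rw [hz', ← Scheme.Hom.comp_apply, HilbBC25.XTmap_snd, Scheme.Hom.comp_apply]
    exact Scheme.fromSpecResidueField_apply _ _
  obtain ⟨Q, i₁, i₂, i₃, i₄, γ, hfin, -, hrk, hcl, hker⟩ := F.exists_data ZR hrangeC
  have hdim : Module.finrank K Q = d := by
    have := hrk (⊥ : PrimeSpectrum K)
    rwa [Module.rankAtStalk_eq_finrank_of_free] at this
  have hspan : Submodule.span K (Set.range γ) = ⊤ := by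
    rw [eq_top_iff]
    rintro q -
    obtain ⟨w, rfl⟩ := F.presentation_surjective_of_isClosedImmersion (R := K) γ q
    induction w using TensorProduct.induction_on with
    | zero => simp
    | tmul r c =>
      have : presentation (R := K) γ (r ⊗ₜ c) = r • γ c := by simp [presentation, Algebra.smul_def]
      rw [this]
      exact Submodule.smul_mem _ _ (Submodule.subset_span ⟨c, rfl⟩)
    | add a b ha hb => rw [map_add]; exact Submodule.add_mem _ ha hb
  obtain ⟨s, hsγ, hss, hli⟩ := exists_linearIndependent K (Set.range γ)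
  rw [hspan] at hss
  let b₀ : Module.Basis s K Q := Module.Basis.mk hli (by rw [Subtype.range_coe, hss])
  haveI : Finite s := Module.Finite.finite_basis b₀
  have hcard : Nat.card s = d := by rw [← Module.finrank_eq_nat_card_basis b₀, hdim]
  let e : s ≃ Fin d := (Finite.equivFinOfCardEq hcard)
  choose c hc using fun i => hsγ (e.symm i).2
  have hb : ∀ i, b₀.reindex e i = γ (c i) := fun i => by
    rw [Module.Basis.reindex_apply, Module.Basis.mk_apply, hc]
  have hcoord : F.HasCoord c Z a := ⟨_, isCoord_repr (β := c) γ (b₀.reindex e) hb, by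
    rw [← F.fam_eq_zOf _ γ (b₀.reindex e) hb fun _ _ => rfl]
    exact hker.symm⟩
  obtain ⟨O, hO, hh⟩ := F.exists_of_hasCoord c Z a hcoord (⊥ : PrimeSpectrum K)
  refine ⟨⟨V', U', c⟩, O, ?_, hh⟩
  rwa [show a.left (⊥ : PrimeSpectrum K) = t from Scheme.fromSpecResidueField_apply _ _] at hO

end Groth.Agent.HilbRep25
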