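import Groth.Agent.Lib.HilbRep25.Data
import Mathlib.RingTheory.LocalRing.Module
import Mathlib.RingTheory.Flat.LocallyFree
import Mathlib.RingTheory.Flat.FaithfullyFlat.Basic
import Mathlib.RingTheory.Support

/-!
# The locus where given elements form a basis is open
-/

set_option autoImplicit false
set_option maxHeartbeats 400000
set_option linter.style.haveILetI false
set_option backward.isDefEq.respectTransparency.types false

universe u

open CategoryTheory CategoryTheory.Limits AlgebraicGeometry TopologicalSpace TensorProduct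

namespace Groth.Agent.HilbRep25

/-- Elements spanning after extension to a field span on a neighbourhood. -/
theorem exists_smul_mem_span {R K M : Type u} [CommRing R] [Field K] [Algebra R K] [AddCommGroup M] [Module R M]
    [Module.Finite R M] {ι : Type} (v : ι → M)
    (hv : Submodule.span K (Set.range fun i => (1 : K) ⊗ₜ[R] v i) = ⊤) :
    ∃ s : R, algebraMap R K s ≠ 0 ∧ ∀ m : M, s • m ∈ Submodule.span R (Set.range v) := by
  let N := Submodule.span R (Set.range v)
  let p : PrimeSpectrum R := ⟨RingHom.ker (algebraMap R K), RingHom.ker_isPrime _⟩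
  haveI : p.asIdeal.IsPrime := p.isPrime
  have h₁ : Subsingleton (K ⊗[R] (M ⧸ N)) := by
    refine subsingleton_of_forall_eq 0 fun z => ?_
    obtain ⟨y, rfl⟩ := LinearMap.lTensor_surjective K N.mkQ_surjective z
    have : (N.mkQ).baseChange K = 0 := LinearMap.ext_on_range hv fun i => by
      simp [N, (Submodule.Quotient.mk_eq_zero _).2 (Submodule.subset_span (Set.mem_range_self i))]
    exact congr($this y)
  have h₂ : p ∉ Module.support R (M ⧸ N) := by
    rw [Module.mem_support_iff_nontrivial_residueField_tensorProduct]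
    intro hnt
    let φ : p.asIdeal.ResidueField →+* K := Ideal.ResidueField.lift p.asIdeal (algebraMap R K) le_rfl
      fun r hr => IsUnit.mk0 _ hr
    letI := φ.toAlgebra
    haveI : IsScalarTower R p.asIdeal.ResidueField K := .of_algebraMap_eq fun r =>
      (Ideal.ResidueField.lift_algebraMap p.asIdeal (algebraMap R K) le_rfl _ r).symm
    haveI : Nontrivial (K ⊗[p.asIdeal.ResidueField] (p.asIdeal.ResidueField ⊗[R] (M ⧸ N))) := inferInstance
    exact not_subsingleton _ ((AlgebraTensorModule.cancelBaseChange R p.asIdeal.ResidueField K K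
      (M ⧸ N)).toEquiv.subsingleton_congr.2 h₁)
  rw [Module.mem_support_iff_of_finite] at h₂
  obtain ⟨s, hs, hs'⟩ := SetLike.not_le_iff_exists.1 h₂
  exact ⟨s, hs', fun m => (Submodule.Quotient.mk_eq_zero N).1 (Module.mem_annihilator.1 hs (N.mkQ m))⟩

variable {X S : Scheme.{u}} {f : X ⟶ S} [IsSeparated f] {A C : Type u} [CommRing A] [CommRing C] [Algebra A C]
  (F : Frame f A C) {d : ℕ} (β : Fin d → C)

/-- A family over an `S`-scheme which is given by coordinates. -/
def Frame.HasCoord {R : Type u} [CommRing R] [Algebra A R] {T : Over S} (Z : HilbD.Obj f d T)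
    (w : F.TR R ⟶ T) : Prop :=
  ∃ (x : C → Fin d → R) (hx : IsCoord A β x), HilbD.pull f w Z.1 = (F.zOf hx).1

theorem Frame.HasCoord.comp {R R' : Type u} [CommRing R] [Algebra A R] [CommRing R'] [Algebra A R'] {T : Over S}
    {Z : HilbD.Obj f d T} {w : F.TR R ⟶ T} (h : F.HasCoord β Z w) (g : R →ₐ[A] R') :
    F.HasCoord β Z (F.homMap g ≫ w) := by
  obtain ⟨x, hx, e⟩ := h
  exact ⟨_, hx.map g, by rw [HilbBC25.pull_comp, e, F.pull_zOf g hx]⟩

variable {β}

theorem Frame.exists_hasCoord_away {R K : Type u} [CommRing R] [Algebra A R] [Field K] [Algebra A K]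
    (Z : HilbD.Obj f d (F.TR R))
    (hrange : ∀ z, (Z.1.subschemeι ≫ pullback.fst f (F.TR R).hom) z ∈ Set.range F.uC)
    (g : R →ₐ[A] K) (h : F.HasCoord β Z (F.homMap g)) :
    ∃ s : R, g s ≠ 0 ∧ F.HasCoord β Z (F.homMap (IsScalarTower.toAlgHom A R (Localization.Away s))) := by
  obtain ⟨Q, i₁, i₂, i₃, i₄, γ, hfin, hflat, hrk, hcl, hker⟩ := F.exists_data Z hrange
  obtain ⟨x, hx, hxe⟩ := h
  letI := g.toRingHom.toAlgebra
  haveI : IsScalarTower A R K := .of_algebraMap_eq fun a => (g.commutes a).symm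
  have hg : IsScalarTower.toAlgHom A R K = g := AlgHom.ext fun r => rfl
  haveI := Module.Finite.of_basis (coordBasis hx)
  haveI := F.isClosedImmersion_iota (coordMap (β := β) (x := x))
    (presentation_surjective (β := β) _ (coordBasis hx) (fun i => coordBasis_apply hx i))
  haveI := F.isClosedImmersion_bc (R := R) (R' := K) γ
  have hk : (F.iota K (bcMap R K γ)).ker = (F.iota K (coordMap (β := β) (x := x))).ker := by
    rw [← F.pull_ker_iota γ, hker, hg]
    exact hxe
  obtain ⟨ε, hε⟩ := F.exists_algEquiv_of_ker_eq _ _ hk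
  have hspan : Submodule.span K (Set.range fun i => (1 : K) ⊗ₜ[R] γ (β i)) = ⊤ := by
    rw [← ((coordBasis hx).map ε.toLinearEquiv).span_eq]
    congr
    funext i
    rw [Module.Basis.map_apply, coordBasis_apply]
    exact (hε (β i)).symm
  obtain ⟨s, hs, hsm⟩ := exists_smul_mem_span (fun i => γ (β i)) hspan
  refine ⟨s, hs, ?_⟩
  let R' := Localization.Away s
  let v : Fin d → R' ⊗[R] Q := fun i => bcMap R R' γ (β i)
  let φ : (Fin d → R') →ₗ[R'] R' ⊗[R] Q := Fintype.linearCombination R' v
  have hsurj : Function.Surjective φ := by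
    rw [← LinearMap.range_eq_top, Fintype.range_linearCombination, eq_top_iff]
    rintro z -
    induction z using TensorProduct.induction_on with
    | zero => exact Submodule.zero_mem _
    | tmul r q =>
      obtain ⟨u, hu⟩ := IsLocalization.Away.algebraMap_isUnit (S := R') s
      have hq : (1 : R') ⊗ₜ[R] (s • q) ∈ Submodule.span R' (Set.range v) :=
        Submodule.apply_mem_span_image_of_mem_span
          ((TensorProduct.mk R R' Q 1).restrictScalars R) (hsm q) |> fun hh => by
            rw [← Set.range_comp] at hh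
            exact Submodule.span_le_restrictScalars R R' _ hh
      have : r ⊗ₜ[R] q = (r * (u⁻¹ : R'ˣ)) • ((1 : R') ⊗ₜ[R] (s • q)) := by
        rw [TensorProduct.tmul_smul, ← IsScalarTower.algebraMap_smul R' s ((1 : R') ⊗ₜ[R] q), ← hu, smul_smul,
          mul_assoc, Units.inv_mul, mul_one, TensorProduct.smul_tmul', smul_eq_mul, mul_one]
      rw [this]
      exact Submodule.smul_mem _ _ hq
    | add a b ha hb => exact Submodule.add_mem _ ha hb
  have hbij : Function.Bijective φ := Module.bijective_of_surjective_of_rankAtStalk_eq hsurj fun m _ => by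
    haveI : Nontrivial R' := ⟨0, 1, fun e => Ideal.IsPrime.ne_top' (I := m) ((Ideal.eq_top_iff_one m).2 (e ▸ zero_mem m))⟩
    rw [Module.rankAtStalk_baseChange, hrk, Module.rankAtStalk_eq_finrank_of_free]
    simp
  let b : Module.Basis (Fin d) R' (R' ⊗[R] Q) := (Pi.basisFun R' (Fin d)).map (LinearEquiv.ofBijective φ hbij)
  have hb : ∀ i, b i = bcMap R R' γ (β i) := fun i => by simp [b, φ, v]
  refine ⟨_, isCoord_repr (β := β) (bcMap R R' γ) b hb, ?_⟩
  rw [← F.fam_eq_zOf _ (bcMap R R' γ) b hb fun _ _ => rfl, ← hker, F.pull_ker_iota]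
  rfl

theorem Frame.exists_nhd {T : Over S} (Z : HilbD.Obj f d T) {K : Type u} [Field K] [Algebra A K]
    (a : F.TR K ⟶ T) (ha : F.HasCoord β Z a) (pt : Spec (CommRingCat.of K)) :
    ∃ (R : Type u) (_ : CommRing R) (_ : Algebra A R) (w : F.TR R ⟶ T),
      IsOpenImmersion w.left ∧ a.left pt ∈ Set.range w.left ∧ F.HasCoord β Z w := by
  obtain ⟨x, hx, hxe⟩ := id ha
  let p : Z.1.subscheme ⟶ T.left := Z.1.subschemeι ≫ PicF.XTproj f T
  let π : Z.1.subscheme ⟶ X := Z.1.subschemeι ≫ pullback.fst f T.hom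
  haveI : IsFinite p := Z.2.1.1
  let B : Set T.left := p '' (π ⁻¹' (Set.range F.uC))ᶜ
  have hB : IsClosed B := p.isClosedMap _ (F.uC.isOpenEmbedding.isOpen_range.preimage π.continuous).isClosed_compl
  let t : T.left := a.left pt
  have ht : t ∉ B := by
    rintro ⟨z, hz, hzt⟩
    obtain ⟨y, hy, -⟩ := Scheme.exists_preimage_of_isPullback (HilbBC25.isPullback_subscheme f a Z.1) z pt hzt
    refine hz ?_
    have hy' : pullback.fst (PicF.XTmap f a) Z.1.subschemeι y ∈ Set.range (pullback.fst (PicF.XTmap f a) Z.1.subschemeι) :=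
      ⟨y, rfl⟩
    rw [Scheme.Pullback.range_fst, Scheme.IdealSheafData.range_subschemeι, ← TopologicalSpace.Closeds.coe_preimage _ (PicF.XTmap f a).continuous,
      ← Scheme.IdealSheafData.support_comap, ← HilbBC25.pull_eq_comap, hxe] at hy'
    haveI := Module.Finite.of_basis (coordBasis hx)
    haveI := F.isClosedImmersion_iota (coordMap (β := β) (x := x))
      (presentation_surjective (β := β) _ (coordBasis hx) (fun i => coordBasis_apply hx i))
    have hs : ((F.zOf hx).1.support : Set (PicF.XT f (F.TR K))) =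
        Set.range (F.iota K (coordMap (β := β) (x := x))) := by
      show ((F.iota K (coordMap (β := β) (x := x))).ker.support : Set (PicF.XT f (F.TR K))) = _
      rw [Scheme.Hom.support_ker]
      exact (F.iota K (coordMap (β := β) (x := x))).isClosedEmbedding.isClosed_range.closure_eq
    rw [hs] at hy'
    obtain ⟨q, hq⟩ := hy'
    show π z ∈ Set.range F.uC
    refine ⟨Spec.map (CommRingCat.ofHom (coordMap (β := β) (x := x)).toRingHom) q, ?_⟩
    rw [← hy, ← Scheme.Hom.comp_apply, ← Scheme.Hom.comp_apply, ← F.iota_fst (R := K), Scheme.Hom.comp_apply, hq,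
      ← Scheme.Hom.comp_apply]
    congr 1
    simp only [π]
    rw [← Category.assoc (pullback.snd _ _), ← pullback.condition, Category.assoc, HilbBC25.XTmap_fst]
  have htA : t ∈ T.hom ⁻¹ᵁ F.vA.opensRange := by
    refine ⟨Spec.map (CommRingCat.ofHom (algebraMap A K)) pt, ?_⟩
    show F.vA _ = T.hom (a.left pt)
    rw [← Scheme.Hom.comp_apply, ← Scheme.Hom.comp_apply, Over.w a]
    rfl
  obtain ⟨R, w₀, hw₀, ⟨q₀, hq₀⟩, hsub⟩ := AlgebraicGeometry.Scheme.exists_affine_mem_range_and_range_subset
    (show t ∈ (⟨Bᶜ, hB.isOpen_compl⟩ ⊓ T.hom ⁻¹ᵁ F.vA.opensRange : T.left.Opens) from ⟨ht, htA⟩)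
  obtain ⟨φ, hφ⟩ := Spec.map_surjective (S := R) (R := CommRingCat.of A)
    (IsOpenImmersion.lift F.vA (w₀ ≫ T.hom) (by rintro _ ⟨z, rfl⟩; exact (hsub ⟨z, rfl⟩).2))
  letI : Algebra A R := φ.hom.toAlgebra
  let w : F.TR R ⟶ T := Over.homMk w₀ (by
    show _ = Spec.map φ ≫ F.vA
    rw [hφ, IsOpenImmersion.lift_fac])
  have ha' : Set.range a.left ⊆ Set.range w₀ := by
    rintro _ ⟨z, rfl⟩
    haveI : Subsingleton (Spec (CommRingCat.of K)) := inferInstanceAs (Subsingleton (PrimeSpectrum K))
    exact ⟨q₀, hq₀.trans (congrArg a.left (Subsingleton.elim (α := Spec (CommRingCat.of K)) pt z))⟩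
  let a₀ : F.TR K ⟶ F.TR R := Over.homMk (IsOpenImmersion.lift w₀ a.left ha') (by
    have := Over.w a
    rw [← IsOpenImmersion.lift_fac w₀ a.left ha', Category.assoc] at this
    rw [← Over.w w]
    exact this)
  obtain ⟨g, hg⟩ := F.exists_homMap_eq a₀
  have hga : F.homMap g ≫ w = a := Over.OverMorphism.ext (by rw [hg]; exact IsOpenImmersion.lift_fac _ _ _)
  let ZR : HilbD.Obj f d (F.TR R) := ⟨HilbD.pull f w Z.1, HilbBC25.isFinLocFreeOfDeg_pull f d w Z.1 Z.2⟩
  have hrange : ∀ z, (ZR.1.subschemeι ≫ pullback.fst f (F.TR R).hom) z ∈ Set.range F.uC := by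
    intro z
    have hz : ZR.1.subschemeι z ∈ (ZR.1.support : Set _) := by
      rw [← Scheme.IdealSheafData.range_subschemeι]; exact ⟨z, rfl⟩
    have hsupp : (ZR.1.support : Set (PicF.XT f (F.TR R))) = PicF.XTmap f w ⁻¹' Set.range Z.1.subschemeι := by
      show ((HilbD.pull f w Z.1).support : Set (PicF.XT f (F.TR R))) = _
      rw [HilbBC25.pull_eq_comap, Scheme.IdealSheafData.support_comap, TopologicalSpace.Closeds.coe_preimage,
        ← Scheme.IdealSheafData.range_subschemeι]
    rw [hsupp] at hz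
    obtain ⟨z', hz'⟩ := hz
    have e : π z' = (ZR.1.subschemeι ≫ pullback.fst f (F.TR R).hom) z := by
      rw [← HilbBC25.XTmap_fst f w]
      simp only [π, Scheme.Hom.comp_apply]
      exact congrArg _ hz'
    rw [← e]
    by_contra hn
    have e2 : p z' = w₀ (PicF.XTproj f (F.TR R) (ZR.1.subschemeι z)) := by
      show PicF.XTproj f T (Z.1.subschemeι z') = _
      rw [hz', ← Scheme.Hom.comp_apply, HilbBC25.XTmap_snd]
      rfl
    exact (hsub ⟨_, rfl⟩).1 ⟨z', hn, e2⟩
  have hgc : F.HasCoord β ZR (F.homMap g) := ⟨x, hx, by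
    show HilbD.pull f _ (HilbD.pull f w Z.1) = _
    rw [← HilbBC25.pull_comp, hga, hxe]⟩
  obtain ⟨s, hs, x', hx', hxe'⟩ := F.exists_hasCoord_away ZR hrange g hgc
  let l : F.TR (Localization.Away s) ⟶ F.TR R := F.homMap (IsScalarTower.toAlgHom A R (Localization.Away s))
  refine ⟨Localization.Away s, inferInstance, inferInstance, l ≫ w, ?_, ?_, x', hx', ?_⟩
  · haveI : IsOpenImmersion (Spec.map (CommRingCat.ofHom (algebraMap R (Localization.Away s)))) :=
      IsOpenImmersion.of_isLocalization (S := Localization.Away s) s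
    show IsOpenImmersion (Spec.map (CommRingCat.ofHom (algebraMap R (Localization.Away s))) ≫ w₀)
    infer_instance
  · rw [← hga]
    have hmem : (F.homMap g).left pt ∈ PrimeSpectrum.basicOpen s := fun hh => by
      have : pt.asIdeal = ⊥ := Ideal.eq_bot_of_prime pt.asIdeal
      apply hs
      have h' : g s ∈ pt.asIdeal := hh
      rwa [this, Ideal.mem_bot] at h'
    have hmem' : (F.homMap g).left pt ∈ (PrimeSpectrum.basicOpen s : Set (PrimeSpectrum R)) := hmem
    rw [← PrimeSpectrum.localization_away_comap_range (Localization.Away s) s] at hmem'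
    obtain ⟨z, hz⟩ := hmem'
    exact ⟨z, congrArg w₀ hz⟩
  · rw [HilbBC25.pull_comp]
    exact hxe'

end Groth.Agent.HilbRep25
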