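import Groth.Agent.Lib.HilbRep25.Glue
import Groth.Agent.Lib.HilbRep25.Locus

/-!
# The chart of quotients with a given basis
-/

set_option autoImplicit false
set_option maxHeartbeats 400000
set_option linter.style.haveILetI false
set_option backward.isDefEq.respectTransparency.types false

universe u

open CategoryTheory CategoryTheory.Limits AlgebraicGeometry TopologicalSpace TensorProduct

namespace Groth.Agent.HilbRep25

variable {X S : Scheme.{u}} {f : X ⟶ S} [IsSeparated f] {A C : Type u} [CommRing A] [CommRing C] [Algebra A C]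
  (F : Frame f A C) {d : ℕ} (β : Fin d → C)

/-- The universal family with coordinates. -/
noncomputable def Frame.univ : HilbD.Obj f d (F.TR (Univ A β)) := F.zOf (isCoord_univ A β)

/-- An affine open of an `S`-scheme over the affine open of the base. -/
theorem Frame.exists_affine {T : Over S} (O : T.left.Opens) (y : T.left) (hy : y ∈ O)
    (hA : T.hom y ∈ Set.range F.vA) :
    ∃ (R : Type u) (_ : CommRing R) (_ : Algebra A R) (c : F.TR R ⟶ T),
      IsOpenImmersion c.left ∧ y ∈ Set.range c.left ∧ ∀ z, c.left z ∈ O := by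
  obtain ⟨R, c, hc, hyc, hsub⟩ := Scheme.exists_affine_mem_range_and_range_subset
    (show y ∈ (O ⊓ T.hom ⁻¹ᵁ F.vA.opensRange : T.left.Opens) from ⟨hy, hA⟩)
  obtain ⟨φ, hφ⟩ := Spec.map_surjective (S := R) (R := CommRingCat.of A)
    (IsOpenImmersion.lift F.vA (c ≫ T.hom) (by rintro _ ⟨z, rfl⟩; exact (hsub ⟨z, rfl⟩).2))
  letI : Algebra A R := φ.hom.toAlgebra
  exact ⟨R, inferInstance, inferInstance, Over.homMk c (by
    show _ = Spec.map φ ≫ F.vA
    rw [hφ, IsOpenImmersion.lift_fac]), hc, hyc, fun z => (hsub ⟨z, rfl⟩).1⟩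

theorem Frame.homMap_inj_of_pull_eq {R : Type u} [CommRing R] [Algebra A R]
    (h h' : F.TR R ⟶ F.TR (Univ A β))
    (e : HilbD.pull f h (F.univ β).1 = HilbD.pull f h' (F.univ β).1) : h = h' := by
  obtain ⟨g, rfl⟩ := F.exists_homMap_eq h
  obtain ⟨g', rfl⟩ := F.exists_homMap_eq h'
  rw [Frame.univ, F.pull_zOf g, F.pull_zOf g'] at e
  have hxx := F.zOf_inj _ _ e
  obtain ⟨φ, -, hu⟩ := existsUnique_lift ((isCoord_univ A β).map g)
  rw [hu g fun c i => rfl, hu g' fun c i => (congrFun (congrFun hxx c) i).symm]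

theorem Frame.range_TR_univ {T : Over S} (h : T ⟶ F.TR (Univ A β)) (y : T.left) :
    T.hom y ∈ Set.range F.vA := by
  rw [← Over.w h]
  exact ⟨Spec.map (CommRingCat.ofHom (algebraMap A (Univ A β))) (h.left y), by
    rw [Scheme.Hom.comp_apply]; exact (Scheme.Hom.comp_apply _ _ _).symm⟩

theorem Frame.eq_of_pull_eq {T : Over S} (h h' : T ⟶ F.TR (Univ A β))
    (e : HilbD.pull f h (F.univ β).1 = HilbD.pull f h' (F.univ β).1) : h = h' := by
  choose R i₁ i₂ c hc hyc _ using fun y : T.left =>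
    F.exists_affine ⊤ y trivial (F.range_TR_univ β h y)
  have hU : IsOpenCover fun y => (c y).left.opensRange :=
    top_le_iff.1 fun y _ => Opens.mem_iSup.2 ⟨y, hyc y⟩
  refine Over.OverMorphism.ext ((Scheme.openCoverOfIsOpenCover T.left _ hU).hom_ext _ _ fun y => ?_)
  have : c y ≫ h = c y ≫ h' :=
    F.homMap_inj_of_pull_eq β _ _ (by rw [HilbBC25.pull_comp, HilbBC25.pull_comp, e])
  have he : (c y).left ≫ h.left = (c y).left ≫ h'.left := congrArg CommaMorphism.left this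
  show (c y).left.opensRange.ι ≫ h.left = (c y).left.opensRange.ι ≫ h'.left
  rw [← cancel_epi (c y).left.isoOpensRange.hom, ← Category.assoc, ← Category.assoc,
    Scheme.Hom.isoOpensRange_hom_ι]
  exact he

/-- The points where a family has the given elements as a basis. -/
def Frame.locus {T : Over S} (Z : HilbD.Obj f d T) : Set T.left :=
  {t | ∃ (R : Type u) (_ : CommRing R) (_ : Algebra A R) (w : F.TR R ⟶ T),
    IsOpenImmersion w.left ∧ t ∈ Set.range w.left ∧ F.HasCoord β Z w}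

theorem Frame.isOpen_locus {T : Over S} (Z : HilbD.Obj f d T) : IsOpen (F.locus β Z) := by
  refine isOpen_iff_forall_mem_open.2 fun t ht => ?_
  obtain ⟨R, i₁, i₂, w, hw, htw, hc⟩ := ht
  exact ⟨Set.range w.left, fun z hz => ⟨R, i₁, i₂, w, hw, hz, hc⟩, w.left.isOpenEmbedding.isOpen_range, htw⟩

theorem Frame.hasCoord_iff {R : Type u} [CommRing R] [Algebra A R] {T : Over S} (Z : HilbD.Obj f d T)
    (w : F.TR R ⟶ T) :
    F.HasCoord β Z w ↔ ∃ h : F.TR R ⟶ F.TR (Univ A β),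
      HilbD.pull f h (F.univ β).1 = HilbD.pull f w Z.1 := by
  constructor
  · rintro ⟨x, hx, e⟩
    obtain ⟨φ, hφ, -⟩ := existsUnique_lift hx
    refine ⟨F.homMap φ, ?_⟩
    rw [Frame.univ, F.pull_zOf φ, e]
    congr
    funext c i
    exact hφ c i
  · rintro ⟨h, e⟩
    obtain ⟨g, rfl⟩ := F.exists_homMap_eq h
    exact ⟨_, (isCoord_univ A β).map g, by rw [← e, Frame.univ, F.pull_zOf g]⟩

set_option maxHeartbeats 1000000 in
theorem exists_glue_hom {T U : Over S} (Z : HilbD.Obj f d T) (J : HilbD.Obj f d U)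
    (hinj : ∀ {T' : Over S} (h h' : T' ⟶ U), HilbD.pull f h J.1 = HilbD.pull f h' J.1 → h = h')
    (𝒰 : Scheme.OpenCover.{u} T.left)
    (h : ∀ k, ∃ h : Over.mk (𝒰.f k ≫ T.hom) ⟶ U, HilbD.pull f h J.1 =
      HilbD.pull f (Over.homMk (𝒰.f k) rfl : Over.mk (𝒰.f k ≫ T.hom) ⟶ T) Z.1) :
    ∃ g : T ⟶ U, HilbD.pull f g J.1 = Z.1 := by
  choose h hh using h
  have hglue : ∀ k l, pullback.fst (𝒰.f k) (𝒰.f l) ≫ (h k).left =
      pullback.snd (𝒰.f k) (𝒰.f l) ≫ (h l).left := by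
    intro k l
    let P : Over S := Over.mk (pullback.fst (𝒰.f k) (𝒰.f l) ≫ 𝒰.f k ≫ T.hom)
    let a : P ⟶ Over.mk (𝒰.f k ≫ T.hom) := Over.homMk (pullback.fst _ _) rfl
    let b : P ⟶ Over.mk (𝒰.f l ≫ T.hom) := Over.homMk (pullback.snd _ _) (by
      show pullback.snd _ _ ≫ 𝒰.f l ≫ T.hom = pullback.fst _ _ ≫ 𝒰.f k ≫ T.hom
      rw [pullback.condition_assoc])
    have e : a ≫ h k = b ≫ h l := hinj _ _ (by
      rw [HilbBC25.pull_comp, HilbBC25.pull_comp, hh, hh, ← HilbBC25.pull_comp, ← HilbBC25.pull_comp]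
      exact pull_congr pullback.condition _)
    exact congrArg CommaMorphism.left e
  obtain ⟨g₀, hg₀⟩ : ∃ g₀ : T.left ⟶ U.left, ∀ k, 𝒰.f k ≫ g₀ = (h k).left :=
    ⟨𝒰.glueMorphisms (fun k => (h k).left) hglue, fun k => 𝒰.ι_glueMorphisms _ _ k⟩
  obtain ⟨g, hg⟩ : ∃ g : T ⟶ U, g.left = g₀ := ⟨Over.homMk g₀ (𝒰.hom_ext _ _ fun k => by
    rw [← Category.assoc, hg₀]; exact Over.w (h k)), rfl⟩
  refine ⟨g, ?_⟩
  obtain ⟨hflat, hqc⟩ := isQCCovering_XTmap (f := f) 𝒰
  refine GrpQuot.SubDesc.ext_family (fun k => PicF.XTmap f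
    (Over.homMk (𝒰.f k) rfl : Over.mk (𝒰.f k ≫ T.hom) ⟶ T)) hflat hqc fun k => ?_
  let j : Over.mk (𝒰.f k ≫ T.hom) ⟶ T := Over.homMk (𝒰.f k) rfl
  have e : j ≫ g = h k := Over.OverMorphism.ext ((congrArg (𝒰.f k ≫ ·) hg).trans (hg₀ k))
  have e2 : HilbD.pull f j (HilbD.pull f g J.1) = HilbD.pull f j Z.1 := by
    rw [← HilbBC25.pull_comp, e]; exact hh k
  rw [HilbBC25.pull_eq_comap f j, HilbBC25.pull_eq_comap f j] at e2
  exact e2

/-- The chart attached to `β`. -/
noncomputable def Frame.chart : Chart f d where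
  U := F.TR (Univ A β)
  Z := F.univ β
  eq_of_pull_eq h h' e := F.eq_of_pull_eq β h h' e
  exists_locus T Z := by
    refine ⟨⟨_, F.isOpen_locus β Z⟩, fun {T'} g => ⟨fun hg => ?_, ?_⟩⟩
    · choose R i₁ i₂ w hw hgw hc using hg
      have hA : ∀ y, T'.hom y ∈ Set.range F.vA := fun y => by
        obtain ⟨z, hz⟩ := hgw y
        rw [← Over.w g, Scheme.Hom.comp_apply]
        exact ⟨Spec.map (CommRingCat.ofHom (algebraMap A (R y))) z, by
          rw [← hz, ← Scheme.Hom.comp_apply, ← Scheme.Hom.comp_apply, Over.w]; rfl⟩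
      have hw' : ∀ y, g.left y ∈ (w y).left.opensRange := hgw
      choose R' j₁ j₂ c hc' hyc hcw using fun y => F.exists_affine (g.left ⁻¹ᵁ (w y).left.opensRange) y (hw' y) (hA y)
      have hU : IsOpenCover fun y => (c y).left.opensRange :=
        top_le_iff.1 fun y _ => Opens.mem_iSup.2 ⟨y, hyc y⟩
      obtain ⟨h, hh⟩ := exists_glue_hom (⟨HilbD.pull f g Z.1, HilbBC25.isFinLocFreeOfDeg_pull f d g Z.1 Z.2⟩ : HilbD.Obj f d T')
        (F.univ β) (fun h h' => F.eq_of_pull_eq β h h') (Scheme.openCoverOfIsOpenCover T'.left _ hU) fun y => by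
        let l : F.TR (R' y) ⟶ F.TR (R y) := Over.homMk (IsOpenImmersion.lift (w y).left ((c y).left ≫ g.left)
            (by rintro _ ⟨z, rfl⟩; exact hcw y z)) (by
          rw [← Over.w (w y), ← Category.assoc, IsOpenImmersion.lift_fac, Category.assoc, Over.w g, Over.w (c y)])
        obtain ⟨g₀, hg₀⟩ := F.exists_homMap_eq l
        have e : F.homMap g₀ ≫ w y = c y ≫ g := Over.OverMorphism.ext (by
          rw [hg₀]; exact IsOpenImmersion.lift_fac _ _ _)
        obtain ⟨k, hk⟩ := (F.hasCoord_iff β Z _).1 (Frame.HasCoord.comp F β (hc y) g₀)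
        let i : Over.mk ((c y).left.opensRange.ι ≫ T'.hom) ⟶ F.TR (R' y) :=
          Over.homMk (c y).left.isoOpensRange.inv (by
            rw [← Over.w (c y), ← Category.assoc]
            congr 1
            rw [Iso.inv_comp_eq, Scheme.Hom.isoOpensRange_hom_ι])
        refine ⟨i ≫ k, ?_⟩
        show _ = HilbD.pull f _ (HilbD.pull f g Z.1)
        rw [HilbBC25.pull_comp, hk, e, ← HilbBC25.pull_comp, ← HilbBC25.pull_comp]
        refine pull_congr ?_ _
        show (c y).left.isoOpensRange.inv ≫ (c y).left ≫ g.left = _ ≫ g.left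
        rw [← Category.assoc]
        congr 1
        rw [Iso.inv_comp_eq]
        exact (Scheme.Hom.isoOpensRange_hom_ι _).symm
      exact ⟨h, hh⟩
    · rintro ⟨h, hh⟩ y
      obtain ⟨R, i₁, i₂, c, hc, ⟨z, rfl⟩, -⟩ := F.exists_affine ⊤ y trivial (F.range_TR_univ β h y)
      let K := (z : PrimeSpectrum R).asIdeal.ResidueField
      let l : F.TR K ⟶ F.TR R := F.homMap (IsScalarTower.toAlgHom A R K)
      have hK : F.HasCoord β Z (l ≫ c ≫ g) := (F.hasCoord_iff β Z _).2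
        ⟨l ≫ c ≫ h, by simp only [HilbBC25.pull_comp]; rw [hh]⟩
      obtain ⟨R', i₁', i₂', w, hw, hmem, hcw⟩ := F.exists_nhd Z (l ≫ c ≫ g) hK (⊥ : PrimeSpectrum K)
      refine ⟨R', i₁', i₂', w, hw, ?_, hcw⟩
      have hz : Spec.map (CommRingCat.ofHom (algebraMap R K)) (⊥ : PrimeSpectrum K) = z := by
        refine PrimeSpectrum.ext ?_
        show Ideal.comap (algebraMap R K) ⊥ = _
        exact Ideal.ker_algebraMap_residueField _
      rw [← hz]
      exact hmem

/-- Membership in the chart, tested at a field. -/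
theorem Frame.exists_of_hasCoord {T : Over S} (Z : HilbD.Obj f d T) {K : Type u} [Field K] [Algebra A K]
    (a : F.TR K ⟶ T) (ha : F.HasCoord β Z a) (pt : Spec (CommRingCat.of K)) :
    ∃ O : T.left.Opens, a.left pt ∈ O ∧ ∃ h : Over.mk (O.ι ≫ T.hom) ⟶ (F.chart β).U,
      HilbD.pull f h (F.chart β).Z.1 = HilbD.pull f (Over.homMk O.ι rfl : Over.mk (O.ι ≫ T.hom) ⟶ T) Z.1 := by
  obtain ⟨h, hh⟩ := (F.hasCoord_iff β Z a).1 ha
  obtain ⟨O, hO⟩ := (F.chart β).exists_locus T Z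
  refine ⟨O, (hO a).2 ⟨h, hh⟩ pt, (hO _).1 fun y => y.2⟩

end Groth.Agent.HilbRep25
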