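import Mathlib.RingTheory.MvPolynomial.Basic
import Mathlib.RingTheory.TensorProduct.Quotient
import Mathlib.RingTheory.Ideal.Quotient.Operations
import Mathlib.LinearAlgebra.Basis.Basic
import Mathlib.RingTheory.TensorProduct.Basic
import Mathlib.LinearAlgebra.StdBasis
import Mathlib.Tactic.LinearCombination

/-!
# The affine chart of the Hilbert functor of points: quotients with a given basis
-/

set_option autoImplicit false
set_option backward.isDefEq.respectTransparency.types false

universe u

namespace Groth.Agent.HilbRep25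

open TensorProduct

variable (A : Type u) [CommRing A] {C : Type u} [CommRing C] [Algebra A C] {d : ℕ} (β : Fin d → C)

/-- Coordinates of the elements of `C` in a quotient with basis the images of `β`. -/
structure IsCoord {R : Type u} [CommRing R] [Algebra A R] (x : C → Fin d → R) : Prop where
  add : ∀ b c i, x (b + c) i = x b i + x c i
  smul : ∀ (a : A) c i, x (a • c) i = algebraMap A R a * x c i
  unit : ∀ j i, x (β j) i = if j = i then 1 else 0
  mul : ∀ b c i, x (b * c) i = ∑ k, x b k * x (β k * c) i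

open MvPolynomial in
/-- The relations. -/
noncomputable def rels : Set (MvPolynomial (C × Fin d) A) :=
  (Set.range fun t : C × C × Fin d => X (t.1 + t.2.1, t.2.2) - X (t.1, t.2.2) - X (t.2.1, t.2.2)) ∪
  (Set.range fun t : A × C × Fin d =>
    X (t.1 • t.2.1, t.2.2) - MvPolynomial.C t.1 * X (t.2.1, t.2.2)) ∪
  (Set.range fun t : Fin d × Fin d => X (β t.1, t.2) - if t.1 = t.2 then 1 else 0) ∪
  Set.range fun t : C × C × Fin d =>
    X (t.1 * t.2.1, t.2.2) - ∑ k, X (t.1, k) * X (β k * t.2.1, t.2.2)

/-- The coordinate ring of the chart. -/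
abbrev Univ : Type u := MvPolynomial (C × Fin d) A ⧸ Ideal.span (rels A β)

/-- The universal coordinates. -/
noncomputable def univCoord (c : C) (i : Fin d) : Univ A β :=
  Ideal.Quotient.mk _ (MvPolynomial.X (c, i))

variable {A β}

theorem rel_eq_zero {p : MvPolynomial (C × Fin d) A} (h : p ∈ rels A β) :
    (Ideal.Quotient.mk (Ideal.span (rels A β))) p = 0 :=
  Ideal.Quotient.eq_zero_iff_mem.2 (Ideal.subset_span h)

variable (A β) in
theorem isCoord_univ : IsCoord A β (univCoord A β) where
  add b c i := by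
    have h := rel_eq_zero (A := A) (β := β) (Or.inl (Or.inl (Or.inl ⟨(b, c, i), rfl⟩)))
    simp only [map_sub] at h
    simp only [univCoord]; linear_combination h
  smul a c i := by
    have h := rel_eq_zero (A := A) (β := β) (Or.inl (Or.inl (Or.inr ⟨(a, c, i), rfl⟩)))
    simp only [map_sub, map_mul] at h
    have e : Ideal.Quotient.mk (Ideal.span (rels A β)) (MvPolynomial.C a) = algebraMap A (Univ A β) a := rfl
    rw [e] at h
    simp only [univCoord]; linear_combination h
  unit j i := by
    have h := rel_eq_zero (A := A) (β := β) (Or.inl (Or.inr ⟨(j, i), rfl⟩))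
    simp only [map_sub, sub_eq_zero, apply_ite (Ideal.Quotient.mk _), map_one, map_zero] at h
    exact h
  mul b c i := by
    have h := rel_eq_zero (A := A) (β := β) (Or.inr ⟨(b, c, i), rfl⟩)
    simp only [map_sub, sub_eq_zero, map_sum, map_mul] at h
    exact h

variable {R : Type u} [CommRing R] [Algebra A R] {x : C → Fin d → R}

theorem IsCoord.map {R' : Type u} [CommRing R'] [Algebra A R'] (hx : IsCoord A β x) (g : R →ₐ[A] R') :
    IsCoord A β fun c i => g (x c i) where
  add b c i := by simp [hx.add]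
  smul a c i := by simp [hx.smul]
  unit j i := by simp [hx.unit, apply_ite g]
  mul b c i := by rw [hx.mul, map_sum]; simp

theorem existsUnique_lift (hx : IsCoord A β x) :
    ∃! φ : Univ A β →ₐ[A] R, ∀ c i, φ (univCoord A β c i) = x c i := by
  let ψ : MvPolynomial (C × Fin d) A →ₐ[A] R := MvPolynomial.aeval fun t => x t.1 t.2
  have hψ : ∀ p ∈ Ideal.span (rels A β), ψ p = 0 := by
    intro p hp
    have : Ideal.span (rels A β) ≤ RingHom.ker ψ := by
      refine Ideal.span_le.2 fun q hq => ?_
      rw [SetLike.mem_coe, RingHom.mem_ker]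
      rcases hq with ((⟨t, rfl⟩ | ⟨t, rfl⟩) | ⟨t, rfl⟩) | ⟨t, rfl⟩
      · simp [ψ, hx.add]
      · simp [ψ, hx.smul]
      · simp [ψ, hx.unit, apply_ite ψ]
      · simp [ψ, hx.mul t.1 t.2.1 t.2.2]
    exact this hp
  refine ⟨Ideal.Quotient.liftₐ _ ψ hψ, fun c i => ?_, fun φ hφ => ?_⟩
  · show Ideal.Quotient.liftₐ _ ψ hψ (Ideal.Quotient.mkₐ A _ (MvPolynomial.X (c, i))) = _
    rw [← AlgHom.comp_apply, Ideal.Quotient.liftₐ_comp]
    simp [ψ]
  · refine Ideal.Quotient.algHom_ext _ (MvPolynomial.algHom_ext fun t => ?_)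
    rw [Ideal.Quotient.liftₐ_comp]
    simp only [ψ, MvPolynomial.aeval_X]
    exact hφ t.1 t.2

variable (β x) in
/-- The ideal of the quotient with coordinates `x`. -/
noncomputable def coordIdeal : Ideal (R ⊗[A] C) :=
  Ideal.span (Set.range fun c : C => (1 : R) ⊗ₜ[A] c - ∑ i, x c i ⊗ₜ[A] β i)

theorem exists_combination (z : R ⊗[A] C) :
    ∃ r : Fin d → R, z - ∑ i, r i ⊗ₜ[A] β i ∈ coordIdeal β x := by
  induction z using TensorProduct.induction_on with
  | zero => exact ⟨0, by simp⟩
  | tmul s c =>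
    refine ⟨fun i => s * x c i, ?_⟩
    have h : (s ⊗ₜ[A] c) - ∑ i, (s * x c i) ⊗ₜ[A] β i =
        (s ⊗ₜ[A] (1 : C)) * ((1 : R) ⊗ₜ[A] c - ∑ i, x c i ⊗ₜ[A] β i) := by
      simp [mul_sub, Finset.mul_sum, Algebra.TensorProduct.tmul_mul_tmul]
    rw [h]
    exact Ideal.mul_mem_left _ _ (Ideal.subset_span ⟨c, rfl⟩)
  | add z w hz hw =>
    obtain ⟨r, hr⟩ := hz
    obtain ⟨r', hr'⟩ := hw
    refine ⟨r + r', ?_⟩
    simp only [Pi.add_apply, TensorProduct.add_tmul, Finset.sum_add_distrib, add_sub_add_comm]
    exact add_mem hr hr'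

theorem eq_zero_of_combination_mem (hx : IsCoord A β x) {r : Fin d → R}
    (h : ∑ i, r i ⊗ₜ[A] β i ∈ coordIdeal β x) : r = 0 := by
  classical
  let ψ : C →ₗ[A] (Fin d → R) :=
    { toFun := fun c => x c
      map_add' := fun b c => funext (hx.add b c)
      map_smul' := fun a c => funext fun i => by
        rw [hx.smul, RingHom.id_apply, Pi.smul_apply, Algebra.smul_def] }
  let Ψ : R ⊗[A] C →ₗ[R] (Fin d → R) := ψ.liftBaseChange R
  have hΨ : ∀ (s : R) c i, Ψ (s ⊗ₜ[A] c) i = s * x c i := fun s c i => by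
    simp [Ψ, ψ, LinearMap.liftBaseChange_tmul]
  have key : ∀ z w : R ⊗[A] C, w ∈ Set.range (fun c : C => (1 : R) ⊗ₜ[A] c - ∑ i, x c i ⊗ₜ[A] β i) →
      Ψ (z * w) = 0 := by
    rintro z _ ⟨c, rfl⟩
    induction z using TensorProduct.induction_on with
    | zero => simp
    | tmul s e =>
      funext i
      simp only [mul_sub, Finset.mul_sum, Algebra.TensorProduct.tmul_mul_tmul, mul_one, map_sub, map_sum,
        Pi.sub_apply, Finset.sum_apply, Pi.zero_apply, hΨ]
      rw [mul_comm e c, hx.mul c e i, Finset.mul_sum, sub_eq_zero]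
      exact Finset.sum_congr rfl fun k _ => by rw [mul_comm e (β k), mul_assoc]
    | add z w hz hw => rw [add_mul, map_add, hz, hw, add_zero]
  have hK : ∀ z ∈ coordIdeal β x, ∀ w, Ψ (w * z) = 0 := by
    intro z hz
    induction hz using Submodule.span_induction with
    | mem z hz => exact fun w => key w z hz
    | zero => simp
    | add p q _ _ hp hq => intro w; rw [mul_add, map_add, hp, hq, add_zero]
    | smul c p _ hp => intro w; rw [smul_eq_mul, ← mul_assoc, hp]
  have h1 := hK _ h 1
  rw [one_mul] at h1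
  funext i
  have h2 := congrFun h1 i
  simpa [map_sum, hΨ, hx.unit, Finset.sum_apply] using h2

/-- The basis of the quotient. -/
noncomputable def coordBasis (hx : IsCoord A β x) :
    Module.Basis (Fin d) R ((R ⊗[A] C) ⧸ coordIdeal β x) :=
  Module.Basis.mk (v := fun i => Ideal.Quotient.mk (coordIdeal β x) ((1 : R) ⊗ₜ[A] β i))
    (Fintype.linearIndependent_iff.2 fun r hr => by
      refine congrFun (eq_zero_of_combination_mem hx ?_)
      rw [← Ideal.Quotient.eq_zero_iff_mem, map_sum, ← hr]
      refine Finset.sum_congr rfl fun i _ => ?_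
      show _ = Ideal.Quotient.mk _ (r i • ((1 : R) ⊗ₜ[A] β i))
      rw [TensorProduct.smul_tmul', smul_eq_mul, mul_one])
    (by
      rintro w -
      obtain ⟨z, rfl⟩ := Ideal.Quotient.mk_surjective w
      obtain ⟨r, hr⟩ := exists_combination (β := β) (x := x) z
      rw [Ideal.Quotient.eq.2 hr, map_sum]
      refine Submodule.sum_mem _ fun i _ => ?_
      rw [show Ideal.Quotient.mk (coordIdeal β x) (r i ⊗ₜ[A] β i) =
          r i • Ideal.Quotient.mk (coordIdeal β x) ((1 : R) ⊗ₜ[A] β i) by
        show _ = Ideal.Quotient.mk _ (r i • ((1 : R) ⊗ₜ[A] β i))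
        rw [TensorProduct.smul_tmul', smul_eq_mul, mul_one]]
      exact Submodule.smul_mem _ (r i) (Submodule.subset_span (Set.mem_range_self i)))

theorem coordBasis_apply (hx : IsCoord A β x) (i : Fin d) :
    coordBasis hx i = Ideal.Quotient.mk (coordIdeal β x) ((1 : R) ⊗ₜ[A] β i) :=
  Module.Basis.mk_apply _ _ i

theorem mk_one_tmul (c : C) :
    Ideal.Quotient.mk (coordIdeal β x) ((1 : R) ⊗ₜ[A] c) =
      ∑ i, x c i • Ideal.Quotient.mk (coordIdeal β x) ((1 : R) ⊗ₜ[A] β i) := by
  have hmem : (1 : R) ⊗ₜ[A] c - ∑ i, x c i ⊗ₜ[A] β i ∈ coordIdeal β x := Ideal.subset_span ⟨c, rfl⟩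
  rw [Ideal.Quotient.eq.2 hmem, map_sum]
  refine Finset.sum_congr rfl fun i _ => ?_
  show _ = Ideal.Quotient.mk _ (x c i • ((1 : R) ⊗ₜ[A] β i))
  rw [TensorProduct.smul_tmul', smul_eq_mul, mul_one]

section ofBasis

variable {Q : Type u} [CommRing Q] [Algebra A Q] [Algebra R Q] [IsScalarTower A R Q] (γ : C →ₐ[A] Q)
  (b : Module.Basis (Fin d) R Q) (hb : ∀ i, b i = γ (β i))

include hb in
/-- A quotient with basis gives coordinates. -/
theorem isCoord_repr : IsCoord A β fun c i => b.repr (γ c) i where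
  add p q i := by simp
  smul a c i := by
    rw [map_smul, show a • γ c = algebraMap A R a • γ c from (IsScalarTower.algebraMap_smul R a (γ c)).symm,
      map_smul, Finsupp.smul_apply, smul_eq_mul]
  unit j i := by rw [← hb, b.repr_self, Finsupp.single_apply]
  mul p q i := by
    conv_lhs => rw [map_mul, ← b.sum_repr (γ p), Finset.sum_mul, map_sum, Finsupp.finsetSum_apply]
    refine Finset.sum_congr rfl fun k _ => ?_
    rw [smul_mul_assoc, hb, ← map_mul, map_smul, Finsupp.smul_apply, smul_eq_mul]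

/-- The presentation of a quotient with basis. -/
noncomputable def presentation : R ⊗[A] C →ₐ[R] Q :=
  Algebra.TensorProduct.lift (Algebra.ofId R Q) γ fun _ _ => .all _ _

include hb in
theorem presentation_surjective : Function.Surjective (presentation (R := R) γ) := fun q =>
  ⟨∑ i, b.repr q i ⊗ₜ[A] β i, by
    conv_rhs => rw [← b.sum_repr q]
    simp [presentation, Algebra.smul_def, hb]⟩

include hb in
theorem ker_presentation :
    RingHom.ker (presentation (R := R) γ) = coordIdeal β fun c i => b.repr (γ c) i := by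
  have hle : (coordIdeal β fun c i => b.repr (γ c) i) ≤ RingHom.ker (presentation (R := R) γ) := by
    refine Ideal.span_le.2 ?_
    rintro _ ⟨c, rfl⟩
    rw [SetLike.mem_coe, RingHom.mem_ker, map_sub, map_sum, sub_eq_zero]
    simp only [presentation, Algebra.TensorProduct.lift_tmul, map_one, one_mul, Algebra.ofId_apply]
    conv_lhs => rw [← b.sum_repr (γ c)]
    exact Finset.sum_congr rfl fun i _ => by rw [Algebra.smul_def, hb]
  refine le_antisymm (fun z hz => ?_) hle
  obtain ⟨r, hr⟩ := exists_combination (β := β) (x := fun c i => b.repr (γ c) i) z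
  have h1 := hle hr
  rw [RingHom.mem_ker, map_sub, (RingHom.mem_ker.1 hz), zero_sub, neg_eq_zero, map_sum] at h1
  simp only [presentation, Algebra.TensorProduct.lift_tmul, Algebra.ofId_apply, ← hb, ← Algebra.smul_def] at h1
  have hr0 : r = 0 := funext (Fintype.linearIndependent_iff.1 b.linearIndependent r h1)
  simpa [hr0] using hr

end ofBasis

end Groth.Agent.HilbRep25
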